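import Mathlib
import Cfsg.Agent.Perm.Basic
import Cfsg.Agent.Perm.Regular

/-!
Schur rings of groups with an abelian regular subgroup, in elementary form, and the theorem
of Schur and Wielandt on B-groups.
-/

set_option linter.style.haveILetI false

namespace Cfsg.Agent.PrimStruct

open MulAction
open scoped Pointwise

variable {G Ω : Type*} [Group G] [MulAction G Ω] {C : Subgroup G} {α : Ω}

/-- A function on the regular subgroup `C` is invariant under the stabiliser of `α`. -/
def SInv (C : Subgroup G) (α : Ω) {R : Type*} (f : C → R) : Prop :=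
  ∀ (h : G), h • α = α → ∀ a b : C, h • ((a : G) • α) = (b : G) • α → f a = f b

variable (hbij : Function.Bijective fun c : C => (c : G) • α)

include hbij in
theorem sinv_conv [IsMulCommutative C] [Fintype C] {R : Type*} [CommSemiring R]
    {f g : C → R} (hf : SInv C α f) (hg : SInv C α g) :
    SInv C α (fun b => ∑ a, f a * g (a⁻¹ * b)) := by
  intro h hh b b' hbb'
  let e := Equiv.ofBijective _ hbij
  let π : C ≃ C := e.trans ((MulAction.toPerm h).trans e.symm)
  have hπ : ∀ a : C, (π a : G) • α = h • ((a : G) • α) := fun a => e.apply_symm_apply _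
  refine Fintype.sum_equiv π _ _ fun a => ?_
  rw [hf h hh a (π a) (hπ a).symm]
  congr 1
  -- the element `(π a)⁻¹ h a` fixes `α`
  refine hg (((π a)⁻¹ : C) * h * a) ?_ _ _ ?_
  · rw [mul_smul, mul_smul, Subgroup.coe_inv, inv_smul_eq_iff]
    exact (hπ a).symm
  · rw [Subgroup.coe_mul, Subgroup.coe_mul, ← mul_smul, Subgroup.coe_inv (H := C) a]
    rw [mul_assoc, mul_inv_cancel_left, mul_smul, mul_smul, hbb', ← mul_smul]

include hbij in
theorem sinv_inv {R : Type*} {f : C → R} (hf : SInv C α f) : SInv C α (fun a => f a⁻¹) := by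
  intro h hh a b hab
  refine (hf ((b : G)⁻¹ * h * a) ?_ a⁻¹ b⁻¹ ?_)
  · rw [mul_smul, mul_smul, inv_smul_eq_iff]; exact hab
  · rw [← mul_smul, Subgroup.coe_inv, mul_assoc, mul_inv_cancel, mul_one, mul_smul, hh,
      Subgroup.coe_inv]

include hbij in
/-- An invariant subgroup of the regular subgroup gives a block, so it is trivial. -/
theorem sinv_subgroup_trivial [IsPreprimitive G Ω] (L : Subgroup C)
    (hL : SInv C α (fun a => a ∈ L)) : L = ⊥ ∨ L = ⊤ := by
  let B : Set Ω := (fun c : C => (c : G) • α) '' (L : Set C)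
  have hB : IsBlock G B := by
    rw [isBlock_iff_smul_eq_of_nonempty]
    rintro g ⟨x, hx1, hx2⟩
    obtain ⟨_, ⟨l, hl, rfl⟩, rfl⟩ := Set.mem_smul_set.mp hx1
    obtain ⟨l', hl', he⟩ := hx2
    change (l' : G) • α = g • (l : G) • α at he
    have hk : ((l' : G)⁻¹ * g * l) • α = α := by
      rw [mul_smul, mul_smul, ← he, inv_smul_smul]
    have hg : ∀ m : C, g • ((m : G) • α) =
        (l' : G) • (((l' : G)⁻¹ * g * l) • (((l⁻¹ * m : C) : G) • α)) := by
      intro m
      simp only [← mul_smul, Subgroup.coe_mul, Subgroup.coe_inv]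
      congr 1; group
    ext z
    constructor
    · intro hz
      obtain ⟨_, ⟨m, hm, rfl⟩, rfl⟩ := Set.mem_smul_set.mp hz
      obtain ⟨n, hn⟩ := hbij.2 (((l' : G)⁻¹ * g * l) • (((l⁻¹ * m : C) : G) • α))
      refine ⟨l' * n, L.mul_mem hl' ?_, ?_⟩
      · exact (Eq.to_iff (hL _ hk _ _ hn.symm)).mp (L.mul_mem (L.inv_mem hl) hm)
      · change ((l' * n : C) : G) • α = g • (m : G) • α
        rw [hg m, ← hn, Subgroup.coe_mul, mul_smul]
    · rintro ⟨n, hn, rfl⟩
      obtain ⟨m, hm⟩ := hbij.2 ((((l' : G)⁻¹ * g * l))⁻¹ • (((l'⁻¹ * n : C) : G) • α))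
      have he : ((l' : G)⁻¹ * g * l) • ((m : G) • α) = ((l'⁻¹ * n : C) : G) • α := by
        change (m : G) • α = _ at hm
        rw [hm, smul_inv_smul]
      refine Set.mem_smul_set.mpr ⟨((l * m : C) : G) • α, ⟨l * m, L.mul_mem hl ?_, rfl⟩, ?_⟩
      · exact (Eq.to_iff (hL _ hk _ _ he)).mpr (L.mul_mem (L.inv_mem hl') hn)
      · rw [hg (l * m), inv_mul_cancel_left, he, ← mul_smul, Subgroup.coe_mul, Subgroup.coe_inv,
          mul_inv_cancel_left]
  rcases IsPreprimitive.isTrivialBlock_of_isBlock hB with h | h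
  · left
    rw [eq_bot_iff]
    intro l hl
    rw [Subgroup.mem_bot]
    exact hbij.1 (h ⟨l, hl, rfl⟩ ⟨1, L.one_mem, rfl⟩)
  · right
    rw [eq_top_iff]
    intro c _
    obtain ⟨l, hl, he⟩ := (h.symm ▸ Set.mem_univ ((c : G) • α) : (c : G) • α ∈ B)
    rwa [← hbij.1 he]

include hbij in
/-- The subgroup generated by an invariant set is invariant. -/
theorem sinv_closure {Y : Set C} (hY : SInv C α (fun a => a ∈ Y)) :
    SInv C α (fun a => a ∈ Subgroup.closure Y) := by
  have hYi : SInv C α (fun a => a⁻¹ ∈ Y) := sinv_inv hbij hY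
  have key : ∀ a ∈ Subgroup.closure Y, ∀ h : G, h • α = α → ∀ b : C,
      h • ((a : G) • α) = (b : G) • α → b ∈ Subgroup.closure Y := by
    intro a ha
    induction ha using Subgroup.closure_induction_left with
    | one =>
      intro h hh b hb
      rw [Subgroup.coe_one, one_smul, hh] at hb
      have : (1 : C) = b := hbij.1 (by simpa using hb)
      rw [← this]; exact one_mem _
    | mul_left x hx y hy ih =>
      intro h hh b hb
      obtain ⟨x', hx'⟩ := hbij.2 (h • ((x : G) • α))
      have hk : ((x' : G)⁻¹ * h * x) • α = α := by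
        rw [mul_smul, mul_smul, inv_smul_eq_iff]; exact hx'.symm
      obtain ⟨y', hy'⟩ := hbij.2 (((x' : G)⁻¹ * h * x) • ((y : G) • α))
      have : b = x' * y' := hbij.1 (by
        change (b : G) • α = ((x' * y' : C) : G) • α
        rw [← hb, Subgroup.coe_mul, Subgroup.coe_mul, mul_smul, mul_smul (x' : G) (y' : G)]
        change _ = (x' : G) • ((fun c : C => (c : G) • α) y')
        rw [hy', mul_smul, mul_smul, smul_inv_smul])
      rw [this]
      exact mul_mem (Subgroup.subset_closure ((Eq.to_iff (hY h hh x x' hx'.symm)).mp hx))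
        (ih _ hk _ hy'.symm)
    | inv_mul_cancel x hx y hy ih =>
      intro h hh b hb
      obtain ⟨x', hx'⟩ := hbij.2 (h • (((x⁻¹ : C) : G) • α))
      have hk : ((x' : G)⁻¹ * h * (x⁻¹ : C)) • α = α := by
        rw [mul_smul, mul_smul, inv_smul_eq_iff]; exact hx'.symm
      obtain ⟨y', hy'⟩ := hbij.2 (((x' : G)⁻¹ * h * (x⁻¹ : C)) • ((y : G) • α))
      have : b = x' * y' := hbij.1 (by
        change (b : G) • α = ((x' * y' : C) : G) • α
        rw [← hb, Subgroup.coe_mul, Subgroup.coe_mul, mul_smul, mul_smul (x' : G) (y' : G)]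
        change _ = (x' : G) • ((fun c : C => (c : G) • α) y')
        rw [hy', mul_smul, mul_smul, smul_inv_smul])
      rw [this]
      refine mul_mem ?_ (ih _ hk _ hy'.symm)
      have h1 : x⁻¹⁻¹ ∈ Y := by rwa [inv_inv]
      exact inv_inv x' ▸ inv_mem (Subgroup.subset_closure ((Eq.to_iff (hYi h hh _ x' hx'.symm)).mp h1))
  intro h hh a b hab
  apply propext
  refine ⟨fun ha => key a ha h hh b hab, fun hb => key b hb h⁻¹ ?_ a ?_⟩
  · rw [inv_smul_eq_iff, hh]
  · rw [inv_smul_eq_iff]; exact hab.symm

theorem sinv_indicator {R : Type*} [Zero R] [One R] (T : Set C) [DecidablePred (· ∈ T)]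
    (hT : SInv C α (fun a => a ∈ T)) : SInv C α (fun a => if a ∈ T then (1 : R) else 0) := by
  intro h hh a b hab
  change (if a ∈ T then (1 : R) else 0) = if b ∈ T then 1 else 0
  simp only [Eq.to_iff (hT h hh a b hab)]

include hbij in
/-- The support of the `p`-th power image of an invariant set is invariant. -/
theorem sinv_pow_image [IsMulCommutative C] [Fintype C] [DecidableEq C] (p : ℕ) [Fact p.Prime] (T : Finset C)
    (hT : SInv C α (fun a => a ∈ (T : Set C))) :
    SInv C α (fun y => ((T.filter fun a => a ^ p = y).card : ZMod p)) := by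
  classical
  letI : CommGroup C := { (inferInstance : Group C) with mul_comm := fun a b => IsMulCommutative.is_comm.comm a b }
  let u : MonoidAlgebra (ZMod p) C := ∑ a ∈ T, MonoidAlgebra.single a 1
  have hu : SInv C α (fun a => u.coeff a) := by
    have h : (fun a => u.coeff a) = fun a => if a ∈ (T : Set C) then (1 : ZMod p) else 0 := by
      funext a
      simp [u, MonoidAlgebra.coeff_sum, Finsupp.finsetSum_apply, Finsupp.single_apply]
    rw [h]
    exact sinv_indicator _ hT
  have hpow : ∀ n : ℕ, 1 ≤ n → SInv C α (fun a => (u ^ n).coeff a) := by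
    intro n hn
    induction n, hn using Nat.le_induction with
    | base => simpa using hu
    | succ n hn ih =>
      have h : (fun b => (u ^ (n + 1)).coeff b) =
          fun b => ∑ a, (u ^ n).coeff a * u.coeff (a⁻¹ * b) := by
        funext b
        rw [pow_succ, MonoidAlgebra.coeff_mul_apply_left, Finsupp.sum_fintype]
        intro i; simp
      rw [h]
      exact sinv_conv hbij ih hu
  haveI : CharP (MonoidAlgebra (ZMod p) C) p :=
    charP_of_injective_algebraMap (algebraMap (ZMod p) (MonoidAlgebra (ZMod p) C)).injective p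
  have hfinal : (fun y => ((T.filter fun a => a ^ p = y).card : ZMod p)) =
      fun y => (u ^ p).coeff y := by
    funext y
    rw [show u ^ p = ∑ a ∈ T, MonoidAlgebra.single (a ^ p) (1 : ZMod p) by
      simp only [u, sum_pow_char p, MonoidAlgebra.single_pow, one_pow]]
    simp [MonoidAlgebra.coeff_sum, Finsupp.finsetSum_apply, Finsupp.single_apply, Finset.sum_boole]
  rw [hfinal]
  exact hpow p (Fact.out : p.Prime).one_le

include hbij in
/-- The subgroup of translations fixing an invariant set is invariant. -/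
theorem sinv_translations [IsMulCommutative C] [Fintype C] (T : Finset C) (L : Subgroup C)
    (hT : SInv C α (fun a => a ∈ (T : Set C))) (hL : ∀ l, l ∈ L ↔ ∀ a ∈ T, a * l ∈ T) :
    SInv C α (fun l => l ∈ L) := by
  classical
  have h1 : SInv C α (fun a => if a ∈ (T : Set C) then (1 : ℕ) else 0) := sinv_indicator _ hT
  have h2 := sinv_conv hbij (sinv_inv hbij h1) h1
  intro h hh l l' hll'
  have h3 := h2 h hh l l' hll'
  have hval : ∀ m : C, (∑ a : C, (if a⁻¹ ∈ (T : Set C) then (1 : ℕ) else 0) *
      (if a⁻¹ * m ∈ (T : Set C) then (1 : ℕ) else 0)) = (T.filter fun a => a * m ∈ T).card := by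
    intro m
    rw [Finset.card_filter, ← Equiv.sum_comp (Equiv.inv C)]
    simp [Finset.sum_ite_mem, ← ite_and, ← Finset.sum_filter, Finset.filter_filter, and_comm]
    exact congrArg Finset.card (by ext; simp)
  simp only [hval] at h3
  apply propext
  have hiff : ∀ m : C, m ∈ L ↔ (T.filter fun a => a * m ∈ T).card = T.card := by
    intro m
    rw [hL m, Finset.card_filter_eq_iff]
  change l ∈ L ↔ l' ∈ L
  rw [hiff, hiff, h3]

/-- Schur and Wielandt: a primitive group with an abelian regular subgroup having, for two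
different primes dividing its order, unique subgroups of these orders, is doubly transitive. -/
theorem schur_wielandt [Finite Ω] [IsPreprimitive G Ω] [Finite C] [IsMulCommutative C]
    (hbij : Function.Bijective fun c : C => (c : G) • α) {p q : ℕ} (hp : p.Prime) (hq : q.Prime)
    (hpq : p ≠ q) (hpc : p ∣ Nat.card C) (hqc : q ∣ Nat.card C)
    (hup : Nat.card {c : C // c ^ p = 1} ≤ p) (huq : Nat.card {c : C // c ^ q = 1} ≤ q) :
    IsMultiplyPretransitive G Ω 2 := by
  classical
  haveI := Fintype.ofFinite C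
  haveI : IsPretransitive G Ω := IsPreprimitive.toIsPretransitive
  letI : CommGroup C := { (inferInstance : Group C) with mul_comm := fun a b => IsMulCommutative.is_comm.comm a b }
  -- the roots of unity of order `r` are the powers of an element of order `r`
  have hroots : ∀ r : ℕ, r.Prime → r ∣ Nat.card C → Nat.card {c : C // c ^ r = 1} ≤ r →
      ∃ z : C, orderOf z = r ∧ ∀ c : C, c ^ r = 1 → c ∈ Subgroup.zpowers z := by
    intro r hr hrc hle
    haveI := Fact.mk hr
    obtain ⟨z, hz⟩ := exists_prime_orderOf_dvd_card' r hrc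
    refine ⟨z, hz, fun c hc => ?_⟩
    have hsub : (Subgroup.zpowers z : Set C) ⊆ {c | c ^ r = 1} := by
      rintro _ ⟨i, rfl⟩
      change (z ^ i) ^ r = 1
      rw [← zpow_natCast, zpow_comm, zpow_natCast, ← hz, pow_orderOf_eq_one, one_zpow]
    have hcard : ({c | c ^ r = 1} : Set C).ncard ≤ (Subgroup.zpowers z : Set C).ncard := by
      rw [← Nat.card_coe_set_eq, ← Nat.card_coe_set_eq]
      exact hle.trans (le_of_eq (by rw [← hz, ← Nat.card_zpowers z]; rfl))
    have := Set.eq_of_subset_of_ncard_le hsub hcard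
    rw [← SetLike.mem_coe, this]; exact hc
  obtain ⟨x₀, hx₀, hx₀'⟩ := hroots p hp hpc hup
  obtain ⟨y₀, hy₀, hy₀'⟩ := hroots q hq hqc huq
  -- a coset of the `r`-torsion lies in an orbit as soon as it meets it
  have hcoset : ∀ (r : ℕ), r.Prime → r ∣ Nat.card C → Nat.card {c : C // c ^ r = 1} ≤ r →
      ∀ T : Finset C, SInv C α (fun a => a ∈ (T : Set C)) →
      ∀ a ∈ T, a ^ r ≠ 1 → ∀ z : C, z ^ r = 1 → a * z ∈ T := by
    intro r hr hrc hle T hT a ha har z hz
    haveI := Fact.mk hr
    have hY := sinv_pow_image hbij r T hT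
    set Y : Set C := {y | ((T.filter fun a => a ^ r = y).card : ZMod r) ≠ 0} with hYdef
    have hYinv : SInv C α (fun y => y ∈ Y) := by
      intro h hh a b hab
      change ((_ : ZMod r) ≠ 0) = ((_ : ZMod r) ≠ 0)
      exact congrArg (· ≠ 0) (hY h hh a b hab)
    have hbot : Subgroup.closure Y = ⊥ := by
      rcases sinv_subgroup_trivial hbij _ (sinv_closure hbij hYinv) with h | h
      · exact h
      exfalso
      have hle' : Subgroup.closure Y ≤ (powMonoidHom r : C →* C).range := by
        rw [Subgroup.closure_le]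
        intro y hy
        by_contra hn
        apply hy
        rw [Finset.filter_eq_empty_iff.mpr fun (a : C) _ (e : a ^ r = y) => hn ⟨a, e⟩]
        simp
      rw [h] at hle'
      have hinj : Function.Injective (powMonoidHom r : C →* C) :=
        Finite.injective_iff_surjective.mpr fun y => hle' (Subgroup.mem_top y)
      obtain ⟨w, hw⟩ := exists_prime_orderOf_dvd_card' r hrc
      have : w = 1 := hinj (by simp [← hw, pow_orderOf_eq_one])
      rw [this, orderOf_one] at hw
      exact hr.ne_one hw.symm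
    have hzero : ((T.filter fun b => b ^ r = a ^ r).card : ZMod r) = 0 := by
      by_contra hne
      have : a ^ r ∈ Subgroup.closure Y := Subgroup.subset_closure hne
      rw [hbot, Subgroup.mem_bot] at this
      exact har this
    rw [ZMod.natCast_eq_zero_iff] at hzero
    -- the fibre has at most `r` elements
    let f : {c : C // c ^ r = 1} → C := fun c => a * c
    have hsub : T.filter (fun b => b ^ r = a ^ r) ⊆ Finset.univ.image f := by
      intro b hb
      rw [Finset.mem_filter] at hb
      refine Finset.mem_image.mpr ⟨⟨a⁻¹ * b, by rw [mul_pow, inv_pow, hb.2, inv_mul_cancel]⟩,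
        Finset.mem_univ _, by simp [f]⟩
    have himg : (Finset.univ.image f).card ≤ r := by
      refine Finset.card_image_le.trans ?_
      rw [Finset.card_univ, ← Nat.card_eq_fintype_card]; exact hle
    have hpos : 0 < (T.filter fun b => b ^ r = a ^ r).card :=
      Finset.card_pos.mpr ⟨a, Finset.mem_filter.mpr ⟨ha, rfl⟩⟩
    have heq := Finset.eq_of_subset_of_card_le hsub (himg.trans (Nat.le_of_dvd hpos hzero))
    have : a * z ∈ T.filter fun b => b ^ r = a ^ r :=
      heq.symm ▸ Finset.mem_image.mpr ⟨⟨z, hz⟩, Finset.mem_univ _, rfl⟩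
    exact (Finset.mem_filter.mp this).1
  -- orbits
  have hmem : ∀ c : C, c ≠ 1 → ∃ h : G, h • α = α ∧ h • ((c : G) • α) = ((x₀ * y₀ : C) : G) • α := by
    intro c hc
    let T : Finset C := Finset.univ.filter fun a => (a : G) • α ∈ orbit (stabilizer G α) ((c : G) • α)
    have hT : SInv C α (fun a => a ∈ (T : Set C)) := by
      intro h hh a b hab
      apply propext
      simp only [T, Finset.coe_filter, Finset.mem_univ, true_and, Set.mem_setOf_eq]
      constructor
      · rintro ⟨s, hs⟩
        refine ⟨⟨h, hh⟩ * s, ?_⟩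
        change (⟨h, hh⟩ * s) • ((c : G) • α) = _
        rw [mul_smul]
        exact (congrArg ((⟨h, hh⟩ : stabilizer G α) • ·) hs).trans hab
      · rintro ⟨s, hs⟩
        refine ⟨(⟨h, hh⟩ : stabilizer G α)⁻¹ * s, ?_⟩
        change ((⟨h, hh⟩ : stabilizer G α)⁻¹ * s) • ((c : G) • α) = _
        rw [mul_smul, inv_smul_eq_iff]
        exact hs.trans hab.symm
    have hcT : c ∈ T := Finset.mem_filter.mpr ⟨Finset.mem_univ _, mem_orbit_self _⟩
    have h1T : (1 : C) ∉ T := by
      intro h
      obtain ⟨s, hs⟩ := (Finset.mem_filter.mp h).2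
      change (s : G) • ((c : G) • α) = ((1 : C) : G) • α at hs
      rw [Subgroup.coe_one, one_smul] at hs
      apply hc
      apply hbij.1
      change (c : G) • α = ((1 : C) : G) • α
      rw [Subgroup.coe_one, one_smul]
      exact smul_left_cancel _ (hs.trans s.2.symm)
    -- `T` contains a non-trivial element of order `p`
    obtain ⟨x, hxT, hx⟩ : ∃ x ∈ T, x ^ p = 1 := by
      by_contra hno
      push Not at hno
      let L : Subgroup C :=
        { carrier := {l | ∀ a ∈ T, a * l ∈ T}
          one_mem' := fun a ha => by simpa using ha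
          mul_mem' := fun {l m} hl hm a ha => by rw [← mul_assoc]; exact hm _ (hl a ha)
          inv_mem' := fun {l} hl a ha => by
            have hs : T.image (· * l) = T := Finset.eq_of_subset_of_card_le
              (fun b hb => by
                obtain ⟨u, hu, rfl⟩ := Finset.mem_image.mp hb
                exact hl u hu)
              (by rw [Finset.card_image_of_injective _ (mul_left_injective l)])
            rw [← hs] at ha
            obtain ⟨u, hu, rfl⟩ := Finset.mem_image.mp ha
            simpa using hu }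
      have hL : L = ⊥ ∨ L = ⊤ :=
        sinv_subgroup_trivial hbij L (sinv_translations hbij T L hT fun l => Iff.rfl)
      have hxL : x₀ ∈ L := fun a ha =>
        hcoset p hp hpc hup T hT a ha (hno a ha) x₀ (by rw [← hx₀, pow_orderOf_eq_one])
      rcases hL with h | h
      · rw [h, Subgroup.mem_bot] at hxL
        rw [hxL, orderOf_one] at hx₀
        exact hp.ne_one hx₀.symm
      · have hcl : c⁻¹ ∈ L := h ▸ Subgroup.mem_top _
        exact h1T (mul_inv_cancel c ▸ hcl c hcT)
    have hxq : x ^ q ≠ 1 := by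
      intro h
      have h1 := Nat.dvd_gcd (orderOf_dvd_of_pow_eq_one hx) (orderOf_dvd_of_pow_eq_one h)
      rw [(Nat.coprime_primes hp hq).mpr hpq, Nat.dvd_one, orderOf_eq_one_iff] at h1
      exact h1T (h1 ▸ hxT)
    have h2 : x * y₀ ∈ T := hcoset q hq hqc huq T hT x hxT hxq y₀ (by rw [← hy₀, pow_orderOf_eq_one])
    have h3 : (x * y₀) ^ p ≠ 1 := by
      rw [mul_pow, hx, one_mul]
      intro h
      have h1 := orderOf_dvd_of_pow_eq_one h
      rw [hy₀] at h1
      exact hpq ((Nat.prime_dvd_prime_iff_eq hq hp).mp h1).symm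
    have h4 := hcoset p hp hpc hup T hT _ h2 h3 (x⁻¹ * x₀)
      (by rw [mul_pow, inv_pow, hx, inv_one, one_mul, ← hx₀, pow_orderOf_eq_one])
    rw [show x * y₀ * (x⁻¹ * x₀) = x₀ * y₀ by
      rw [mul_comm x⁻¹ x₀, mul_assoc, ← mul_assoc y₀, mul_comm (y₀ * x₀) x⁻¹, ← mul_assoc,
        mul_inv_cancel, one_mul, mul_comm]] at h4
    obtain ⟨s, hs⟩ := (Finset.mem_filter.mp h4).2
    exact ⟨s, s.2, hs⟩
  rw [PermLib.two_pretransitive_iff_stabilizer α]
  intro u v hu hv
  obtain ⟨a, rfl⟩ := hbij.2 u
  obtain ⟨b, rfl⟩ := hbij.2 v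
  obtain ⟨h, hh, hha⟩ := hmem a (fun e => hu (by subst e; simp))
  obtain ⟨k, hk, hkb⟩ := hmem b (fun e => hv (by subst e; simp))
  refine ⟨k⁻¹ * h, mem_stabilizer_iff.mpr (by rw [mul_smul, hh, inv_smul_eq_iff, hk]), ?_⟩
  change (k⁻¹ * h) • ((a : G) • α) = (b : G) • α
  rw [mul_smul, hha, inv_smul_eq_iff, hkb]

end Cfsg.Agent.PrimStruct
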