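import Cfsg.Agent.PrimStruct.Schur

/-!
Schur's theorem: a primitive group with a regular cyclic subgroup of prime-power, composite order
is doubly transitive.
-/

set_option autoImplicit false

namespace Cfsg.Agent.PrimStruct

open MulAction

variable {G Ω : Type*} [Group G] [MulAction G Ω] {C : Subgroup G} {α : Ω}

theorem dvd_card_of_translation_invariant {K : Type*} [Group K] [DecidableEq K] {p : ℕ} [Fact p.Prime]
    {z : K} (hz : orderOf z = p) (S : Finset K) (h : ∀ a ∈ S, a * z ∈ S) : p ∣ S.card := by
  classical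
  let f : Function.End S := fun a => ⟨a.1 * z, h a.1 a.2⟩
  have hpow : ∀ (k : ℕ) (a : S), ((f ^ k) a).1 = a.1 * z ^ k := by
    intro k
    induction k with
    | zero => intro a; show a.1 = _; simp
    | succ k ih =>
      intro a
      rw [pow_succ]
      show ((f ^ k) (f a)).1 = _
      rw [ih]
      show a.1 * z * z ^ k = _
      rw [pow_succ', mul_assoc]
  have hf : f ^ p ^ 1 = 1 := by
    funext a
    apply Subtype.ext
    rw [hpow, pow_one, ← hz, pow_orderOf_eq_one, mul_one]
    rfl
  have hmod := Equiv.Perm.card_fixedPoints_modEq hf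
  have h0 : Fintype.card f.fixedPoints = 0 := by
    rw [Fintype.card_eq_zero_iff]
    refine ⟨fun ⟨a, ha⟩ => ?_⟩
    have h1 : a.1 * z = a.1 := congrArg Subtype.val ha
    rw [mul_eq_left] at h1
    rw [h1, orderOf_one] at hz
    exact (Fact.out : p.Prime).ne_one hz.symm
  rw [h0, Nat.modEq_zero_iff_dvd, Fintype.card_coe] at hmod
  exact hmod

theorem schur_prime_pow [Finite Ω] [IsPreprimitive G Ω] [Finite C] [IsCyclic C]
    (hbij : Function.Bijective fun c : C => (c : G) • α) {p m : ℕ} (hp : p.Prime) (hm : 2 ≤ m)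
    (hC : Nat.card C = p ^ m) : IsMultiplyPretransitive G Ω 2 := by
  classical
  haveI := Fintype.ofFinite C
  haveI : IsPretransitive G Ω := IsPreprimitive.toIsPretransitive
  haveI : Fact p.Prime := ⟨hp⟩
  letI : CommGroup C := IsCyclic.commGroup
  haveI : IsMulCommutative C := ⟨⟨mul_comm⟩⟩
  have hpc : p ∣ Nat.card C := hC ▸ dvd_pow_self p (by omega)
  have hup : Nat.card {c : C // c ^ p = 1} ≤ p := by
    rw [Nat.card_eq_fintype_card, Fintype.card_subtype]
    exact IsCyclic.card_pow_eq_one_le hp.pos
  -- a coset of the `r`-torsion lies in an orbit as soon as it meets it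
  have hcoset : ∀ (r : ℕ), r.Prime → r ∣ Nat.card C → Nat.card {c : C // c ^ r = 1} ≤ r →
      ∀ T : Finset C, SInv C α (fun a => a ∈ (T : Set C)) →
      ∀ a ∈ T, a ^ r ≠ 1 → ∀ z : C, z ^ r = 1 → a * z ∈ T := by
    intro r hr hrc hle T hT a ha har z hz
    haveI := Fact.mk hr
    have hY := sinv_pow_image hbij r T hT
    set Y : Set C := {y | ((T.filter fun a => a ^ r = y).card : ZMod r) ≠ 0} with hYdef
    have hYinv : SInv C α (fun y => y ∈ Y) := by
      intro h hh a b hab
      change ((_ : ZMod r) ≠ 0) = ((_ : ZMod r) ≠ 0)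
      exact congrArg (· ≠ 0) (hY h hh a b hab)
    have hbot : Subgroup.closure Y = ⊥ := by
      rcases sinv_subgroup_trivial hbij _ (sinv_closure hbij hYinv) with h | h
      · exact h
      exfalso
      have hle' : Subgroup.closure Y ≤ (powMonoidHom r : C →* C).range := by
        rw [Subgroup.closure_le]
        intro y hy
        by_contra hn
        apply hy
        rw [Finset.filter_eq_empty_iff.mpr fun (a : C) _ (e : a ^ r = y) => hn ⟨a, e⟩]
        simp
      rw [h] at hle'
      have hinj : Function.Injective (powMonoidHom r : C →* C) :=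
        Finite.injective_iff_surjective.mpr fun y => hle' (Subgroup.mem_top y)
      obtain ⟨w, hw⟩ := exists_prime_orderOf_dvd_card' r hrc
      have : w = 1 := hinj (by simp [← hw, pow_orderOf_eq_one])
      rw [this, orderOf_one] at hw
      exact hr.ne_one hw.symm
    have hzero : ((T.filter fun b => b ^ r = a ^ r).card : ZMod r) = 0 := by
      by_contra hne
      have : a ^ r ∈ Subgroup.closure Y := Subgroup.subset_closure hne
      rw [hbot, Subgroup.mem_bot] at this
      exact har this
    rw [ZMod.natCast_eq_zero_iff] at hzero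
    -- the fibre has at most `r` elements
    let f : {c : C // c ^ r = 1} → C := fun c => a * c
    have hsub : T.filter (fun b => b ^ r = a ^ r) ⊆ Finset.univ.image f := by
      intro b hb
      rw [Finset.mem_filter] at hb
      refine Finset.mem_image.mpr ⟨⟨a⁻¹ * b, by rw [mul_pow, inv_pow, hb.2, inv_mul_cancel]⟩,
        Finset.mem_univ _, by simp [f]⟩
    have himg : (Finset.univ.image f).card ≤ r := by
      refine Finset.card_image_le.trans ?_
      rw [Finset.card_univ, ← Nat.card_eq_fintype_card]; exact hle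
    have hpos : 0 < (T.filter fun b => b ^ r = a ^ r).card :=
      Finset.card_pos.mpr ⟨a, Finset.mem_filter.mpr ⟨ha, rfl⟩⟩
    have heq := Finset.eq_of_subset_of_card_le hsub (himg.trans (Nat.le_of_dvd hpos hzero))
    have : a * z ∈ T.filter fun b => b ^ r = a ^ r :=
      heq.symm ▸ Finset.mem_image.mpr ⟨⟨z, hz⟩, Finset.mem_univ _, rfl⟩
    exact (Finset.mem_filter.mp this).1
  obtain ⟨z, hz⟩ := exists_prime_orderOf_dvd_card' (G := C) p hpc
  have hzp : z ^ p = 1 := by rw [← hz, pow_orderOf_eq_one]
  have hΩcl : ∀ a b : C, a ^ p = 1 → b ^ p = 1 → (a * b) ^ p = 1 := fun a b ha hb => by rw [mul_pow, ha, hb, one_mul]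
  have htors : ∀ a : C, a ^ p = 1 → a ∈ Subgroup.zpowers z := by
    intro a ha
    have hsub : (Subgroup.zpowers z : Set C) ⊆ {c | c ^ p = 1} := by
      rintro _ ⟨i, rfl⟩
      show (z ^ i) ^ p = 1
      rw [← zpow_natCast, zpow_comm, zpow_natCast, hzp, one_zpow]
    have := Set.eq_of_subset_of_ncard_le hsub (by
      rw [← Nat.card_coe_set_eq, ← Nat.card_coe_set_eq]
      exact hup.trans (le_of_eq (by rw [← hz, ← Nat.card_zpowers z]; rfl)))
    rw [← SetLike.mem_coe, this]; exact ha
  -- orbits of the stabilizer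
  let T : C → Finset C := fun c =>
    Finset.univ.filter fun a => (a : G) • α ∈ orbit (stabilizer G α) ((c : G) • α)
  have hTmem : ∀ {a c : C}, a ∈ T c ↔ (a : G) • α ∈ orbit (stabilizer G α) ((c : G) • α) := fun {a c} => by
    simp [T]
  have hTinv : ∀ c, SInv C α (fun a => a ∈ (T c : Set C)) := by
    intro c h hh a b hab
    apply propext
    change a ∈ T c ↔ b ∈ T c
    rw [hTmem, hTmem, ← hab]
    exact ⟨fun hx => mem_orbit_of_mem_orbit (⟨h, hh⟩ : stabilizer G α) hx,
      fun hx => by
        have := mem_orbit_of_mem_orbit (⟨h, hh⟩ : stabilizer G α)⁻¹ hx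
        rwa [show ((⟨h, hh⟩ : stabilizer G α)⁻¹) • h • ((a : G) • α) = (a : G) • α from inv_smul_smul h _] at this⟩
  have hTeq : ∀ {a c : C}, a ∈ T c → T a = T c := by
    intro a c h
    ext b
    rw [hTmem, hTmem, orbit_eq_iff.mpr (hTmem.mp h)]
  have hTself : ∀ c, c ∈ T c := fun c => hTmem.mpr (mem_orbit_self _)
  have h1T : ∀ c : C, c ≠ 1 → (1 : C) ∉ T c := by
    intro c hc h
    obtain ⟨s, hs⟩ := hTmem.mp h
    change (s : G) • ((c : G) • α) = ((1 : C) : G) • α at hs
    rw [Subgroup.coe_one, one_smul] at hs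
    refine hc (hbij.1 ?_)
    change (c : G) • α = ((1 : C) : G) • α
    rw [Subgroup.coe_one, one_smul]
    exact smul_left_cancel _ (hs.trans s.2.symm)
  -- every orbit meets the torsion and leaves it
  have hmeet : ∀ c : C, c ≠ 1 → ∃ a ∈ T c, a ^ p = 1 := by
    intro c hc
    by_contra hno
    push Not at hno
    let L : Subgroup C :=
      { carrier := {l | ∀ a ∈ T c, a * l ∈ T c}
        one_mem' := fun a ha => by simpa using ha
        mul_mem' := fun {l k} hl hk a ha => by rw [← mul_assoc]; exact hk _ (hl a ha)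
        inv_mem' := fun {l} hl a ha => by
          have hs : (T c).image (· * l) = T c := Finset.eq_of_subset_of_card_le
            (fun b hb => by
              obtain ⟨u, hu, rfl⟩ := Finset.mem_image.mp hb
              exact hl u hu)
            (by rw [Finset.card_image_of_injective _ (mul_left_injective l)])
          rw [← hs] at ha
          obtain ⟨u, hu, rfl⟩ := Finset.mem_image.mp ha
          simpa using hu }
    have hL := sinv_subgroup_trivial hbij L (sinv_translations hbij (T c) L (hTinv c) fun l => Iff.rfl)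
    have hzL : z ∈ L := fun a ha => hcoset p hp hpc hup (T c) (hTinv c) a ha (hno a ha) z hzp
    rcases hL with h | h
    · rw [h, Subgroup.mem_bot] at hzL
      rw [hzL, orderOf_one] at hz
      exact hp.ne_one hz.symm
    · exact h1T c hc (mul_inv_cancel c ▸ (h ▸ Subgroup.mem_top c⁻¹ : c⁻¹ ∈ L) c (hTself c))
  have hleave : ∀ c : C, c ≠ 1 → ∃ a ∈ T c, a ^ p ≠ 1 := by
    intro c hc
    by_contra hno
    push Not at hno
    rcases sinv_subgroup_trivial hbij _ (sinv_closure hbij (hTinv c)) with h | h
    · have := Subgroup.subset_closure (k := (T c : Set C)) (hTself c)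
      rw [h] at this
      exact hc (Subgroup.mem_bot.mp this)
    · have hle : Subgroup.closure (T c : Set C) ≤ Subgroup.zpowers z :=
        (Subgroup.closure_le _).mpr fun a ha => htors a (hno a ha)
      have hcard := Subgroup.card_le_of_le hle
      rw [h, Subgroup.card_top, Nat.card_zpowers, hz, hC] at hcard
      have : p ^ 2 ≤ p ^ m := Nat.pow_le_pow_right hp.pos hm
      have := hp.two_le
      nlinarith
  -- two different orbits are impossible
  have hone : ∀ c : C, c ≠ 1 → c ^ p = 1 → c ∈ T z := by
    intro d hd1 hdp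
    by_contra hdT
    have hz1 : z ≠ 1 := fun e => by rw [e, orderOf_one] at hz; exact hp.ne_one hz.symm
    have hdisj : ∀ a, a ∈ T z → a ∉ T d := fun a h h' => hdT ((hTeq h).symm.trans (hTeq h') ▸ hTself d)
    let F : C → Finset C := fun x => Finset.univ.filter fun a => a ∈ T z ∧ a⁻¹ * x ∈ T d
    have hN : SInv C α (fun x => (F x).card) := by
      have h2 := sinv_conv hbij (sinv_indicator (R := ℕ) _ (hTinv z)) (sinv_indicator (R := ℕ) _ (hTinv d))
      intro h hh a b hab
      have h3 := h2 h hh a b hab
      have key : ∀ x : C, (F x).card = ∑ a : C, (if a ∈ (T z : Set C) then (1 : ℕ) else 0) *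
          (if a⁻¹ * x ∈ (T d : Set C) then (1 : ℕ) else 0) := by
        intro x
        rw [Finset.card_filter]
        refine Finset.sum_congr rfl fun a _ => ?_
        by_cases h1 : a ∈ T z <;> by_cases h2 : a⁻¹ * x ∈ T d <;> simp [h1, h2]
      show (F a).card = (F b).card
      rw [key, key]
      exact h3
    have hR : ∀ (c a w : C), a ∈ T c → a ^ p ≠ 1 → w ^ p = 1 → a * w ∈ T c := fun c a w ha hap hw =>
      hcoset p hp hpc hup (T c) (hTinv c) a ha hap w hw
    have hinvp : ∀ a : C, a ^ p = 1 → a⁻¹ ^ p = 1 := fun a ha => by rw [inv_pow, ha, inv_one]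
    let A : Finset C := (T d).filter fun b => b ^ p = 1
    obtain ⟨r, hrT, hrp⟩ := hleave z hz1
    have hval_r : p ∣ (F r).card - A.card ∧ A.card ≤ (F r).card := by
      have hsplit := (Finset.card_filter_add_card_filter_not (s := F r) (fun a => (a⁻¹ * r) ^ p = 1))
      have h1 : ((F r).filter fun a => (a⁻¹ * r) ^ p = 1).card = A.card := by
        refine Finset.card_bij' (fun a _ => a⁻¹ * r) (fun b _ => r * b⁻¹) ?_ ?_ ?_ ?_
        · intro a ha
          simp only [F, A, Finset.mem_filter, Finset.mem_univ, true_and] at ha ⊢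
          exact ⟨ha.1.2, ha.2⟩
        · intro b hb
          simp only [F, A, Finset.mem_filter, Finset.mem_univ, true_and] at hb ⊢
          have e : (r * b⁻¹)⁻¹ * r = b := by rw [mul_inv_rev, inv_inv, mul_assoc, inv_mul_cancel, mul_one]
          rw [e]
          exact ⟨⟨hR z r _ hrT hrp (hinvp b hb.2), hb.1⟩, hb.2⟩
        · intro a _; simp
        · intro b _; simp [mul_assoc]
      have h2 : p ∣ ((F r).filter fun a => ¬ (a⁻¹ * r) ^ p = 1).card := by
        refine dvd_card_of_translation_invariant hz _ fun a ha => ?_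
        simp only [F, Finset.mem_filter, Finset.mem_univ, true_and] at ha ⊢
        have hap : a ^ p ≠ 1 := by
          intro h
          have := hR d (a⁻¹ * r) a ha.1.2 ha.2 h
          rw [mul_comm a⁻¹ r, inv_mul_cancel_right] at this
          exact hdisj r hrT this
        have e : (a * z)⁻¹ * r = a⁻¹ * r * z⁻¹ := by rw [mul_inv_rev, mul_comm z⁻¹, mul_right_comm]
        refine ⟨⟨hR z a z ha.1.1 hap hzp, ?_⟩, ?_⟩
        · rw [e]; exact hR d _ _ ha.1.2 ha.2 (hinvp z hzp)
        · rw [e]
          intro h
          apply ha.2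
          have := hΩcl _ _ h hzp
          rwa [inv_mul_cancel_right] at this
      obtain ⟨t, ht⟩ := h2
      exact ⟨⟨t, by omega⟩, by omega⟩
    have hval_z : p ∣ ((F z).filter fun a => ¬ a ^ p = 1).card ∧ ((F z).filter fun a => a ^ p = 1).card ≤ A.card := by
      constructor
      · refine dvd_card_of_translation_invariant hz _ fun a ha => ?_
        simp only [F, Finset.mem_filter, Finset.mem_univ, true_and] at ha ⊢
        have hap : (a⁻¹ * z) ^ p ≠ 1 := by
          intro h
          apply ha.2
          have h' := hΩcl _ _ (hinvp _ h) hzp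
          rwa [mul_inv_rev, inv_inv, mul_comm z⁻¹, inv_mul_cancel_right] at h'
        have e : (a * z)⁻¹ * z = a⁻¹ * z * z⁻¹ := by rw [mul_inv_rev, mul_comm z⁻¹, mul_right_comm]
        refine ⟨⟨hR z a z ha.1.1 ha.2 hzp, ?_⟩, ?_⟩
        · rw [e]; exact hR d _ _ ha.1.2 hap (hinvp z hzp)
        · intro h
          apply ha.2
          have := hΩcl _ _ h (hinvp z hzp)
          rwa [mul_inv_cancel_right] at this
      · refine Finset.card_le_card_of_injOn (fun a => a⁻¹ * z) (fun a ha => ?_) (fun a _ b _ h => ?_)
        · simp only [F, A, Finset.coe_filter, Finset.mem_filter, Finset.mem_univ, true_and, Set.mem_setOf_eq] at ha ⊢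
          exact ⟨ha.1.2, hΩcl _ _ (hinvp a ha.2) hzp⟩
        · simpa using h
    obtain ⟨s, hs⟩ := hTmem.mp hrT
    have heq : (F r).card = (F z).card := by
      change (s : G) • ((z : G) • α) = (r : G) • α at hs
      exact (hN _ s.2 z r hs).symm
    have hsplit := Finset.card_filter_add_card_filter_not (s := F z) (fun a => a ^ p = 1)
    have hAp : A.card < p := by
      have hsub : A ⊆ (Finset.univ.filter fun c : C => c ^ p = 1).erase 1 := by
        intro b hb
        simp only [A, Finset.mem_filter] at hb
        simp only [Finset.mem_erase, Finset.mem_filter, Finset.mem_univ, true_and]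
        exact ⟨fun e => h1T d hd1 (e ▸ hb.1), hb.2⟩
      have hc := Finset.card_le_card hsub
      rw [Finset.card_erase_of_mem (by simp)] at hc
      rw [Nat.card_eq_fintype_card, Fintype.card_subtype] at hup
      have := hp.pos
      omega
    set c := ((F z).filter fun a => a ^ p = 1).card with hc
    have hcA : c = A.card := by
      obtain ⟨⟨t, ht⟩, hle⟩ := hval_r
      obtain ⟨⟨t', ht'⟩, hle'⟩ := hval_z
      by_contra hne
      have hlt : c < A.card := lt_of_le_of_ne hle' hne
      have : t < t' := by
        by_contra h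
        push Not at h
        have := Nat.mul_le_mul_left p h
        omega
      have := Nat.mul_le_mul_left p (Nat.succ_le_of_lt this)
      rw [Nat.mul_succ] at this
      omega
    -- hence translation by `d⁻¹` preserves the torsion part of `T z`
    have hstep : ∀ b, b ∈ T z → b ^ p = 1 → b * d⁻¹ ∈ T z := by
      intro b hbT hbp
      obtain ⟨s', hs'⟩ := hTmem.mp hbT
      have heqb : (F b).card = (F r).card := by
        change (s' : G) • ((z : G) • α) = (b : G) • α at hs'
        rw [heq]; exact (hN _ s'.2 z b hs').symm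
      have hge : A.card ≤ ((F b).filter fun a => a ^ p = 1).card := by
        have hsplitb := Finset.card_filter_add_card_filter_not (s := F b) (fun a => a ^ p = 1)
        have hdiv : p ∣ ((F b).filter fun a => ¬ a ^ p = 1).card := by
          refine dvd_card_of_translation_invariant hz _ fun a ha => ?_
          simp only [F, Finset.mem_filter, Finset.mem_univ, true_and] at ha ⊢
          have hap : (a⁻¹ * b) ^ p ≠ 1 := by
            intro h
            apply ha.2
            have h' := hΩcl _ _ (hinvp _ h) hbp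
            rwa [mul_inv_rev, inv_inv, mul_comm b⁻¹, inv_mul_cancel_right] at h'
          have e : (a * z)⁻¹ * b = a⁻¹ * b * z⁻¹ := by rw [mul_inv_rev, mul_comm z⁻¹, mul_right_comm]
          refine ⟨⟨hR z a z ha.1.1 ha.2 hzp, ?_⟩, ?_⟩
          · rw [e]; exact hR d _ _ ha.1.2 hap (hinvp z hzp)
          · intro h
            apply ha.2
            have := hΩcl _ _ h (hinvp z hzp)
            rwa [mul_inv_cancel_right] at this
        obtain ⟨⟨t, ht⟩, hle⟩ := hval_r
        obtain ⟨t', ht'⟩ := hdiv
        by_contra hne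
        push Not at hne
        have : t < t' := by
          by_contra h
          push Not at h
          have := Nat.mul_le_mul_left p h
          omega
        have := Nat.mul_le_mul_left p (Nat.succ_le_of_lt this)
        rw [Nat.mul_succ] at this
        omega
      have himg : A.image (fun e => b * e⁻¹) = (F b).filter fun a => a ^ p = 1 := by
        symm
        refine Finset.eq_of_subset_of_card_le (fun a ha => ?_) ?_
        · simp only [F, Finset.mem_filter, Finset.mem_univ, true_and] at ha
          refine Finset.mem_image.mpr ⟨a⁻¹ * b, Finset.mem_filter.mpr ⟨ha.1.2, hΩcl _ _ (hinvp a ha.2) hbp⟩, ?_⟩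
          rw [mul_inv_rev, inv_inv, mul_inv_cancel_left]
        · exact Finset.card_image_le.trans hge
      have hdA : d ∈ A := Finset.mem_filter.mpr ⟨hTself d, hdp⟩
      have := himg ▸ Finset.mem_image.mpr ⟨d, hdA, rfl⟩
      simp only [F, Finset.mem_filter, Finset.mem_univ, true_and] at this
      exact this.1.1
    have hall : ∀ k : ℕ, z * d⁻¹ ^ k ∈ T z ∧ (z * d⁻¹ ^ k) ^ p = 1 := by
      intro k
      induction k with
      | zero => simpa using ⟨hTself z, hzp⟩
      | succ k ih =>
        rw [pow_succ, ← mul_assoc]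
        exact ⟨hstep _ ih.1 ih.2, hΩcl _ _ ih.2 (hinvp d hdp)⟩
    -- `z` is a power of `d⁻¹`
    obtain ⟨k, hk⟩ : ∃ k : ℕ, d⁻¹ ^ k = z⁻¹ := by
      have hd' : orderOf d⁻¹ = p := by rw [orderOf_inv]; exact orderOf_eq_prime hdp hd1
      have hle : Subgroup.zpowers d⁻¹ ≤ Subgroup.zpowers z := Subgroup.zpowers_le.mpr (htors _ (hinvp d hdp))
      have := Subgroup.eq_of_le_of_card_ge hle (by rw [Nat.card_zpowers, Nat.card_zpowers, hd', hz])
      have hmem : z⁻¹ ∈ Subgroup.zpowers d⁻¹ := this ▸ inv_mem (Subgroup.mem_zpowers z)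
      exact (isOfFinOrder_of_finite d⁻¹).mem_powers_iff_mem_zpowers.mpr hmem
    have := (hall k).1
    rw [hk, mul_inv_cancel] at this
    exact h1T z hz1 this
  rw [PermLib.two_pretransitive_iff_stabilizer α]
  intro u v hu hv
  obtain ⟨a, rfl⟩ := hbij.2 u
  obtain ⟨b, rfl⟩ := hbij.2 v
  have hz_orbit : ∀ c : C, c ≠ 1 → T c = T z := by
    intro c hc
    obtain ⟨e, heT, hep⟩ := hmeet c hc
    have he1 : e ≠ 1 := fun h => h1T c hc (h ▸ heT)
    rw [← hTeq heT, hTeq (hone e he1 hep)]
  have hb : b ∈ T a := by
    rw [hz_orbit a (fun e => hu (by subst e; simp)), ← hz_orbit b (fun e => hv (by subst e; simp))]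
    exact hTself b
  obtain ⟨s, hs⟩ := hTmem.mp hb
  exact ⟨s, s.2, hs⟩

end Cfsg.Agent.PrimStruct
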