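import Mathlib
import Cfsg.Agent.Perm.Basic
import Cfsg.Agent.Perm.Regular
import Cfsg.Prelude.Def_Transfer

/-!
Elementary structure of finite primitive groups that are neither affine nor almost simple:
simple factors of a minimal normal subgroup and derangements supported on one or two factors.
-/

set_option linter.style.haveILetI false

namespace Cfsg.Agent.PrimStruct

open MulAction Subgroup

variable {G Ω : Type*} [Group G] [MulAction G Ω]

/-- A minimal non-trivial subgroup below `H` with property `P`. -/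
theorem exists_minimal_le [Finite G] (P : Subgroup G → Prop) {H : Subgroup G} (hH : P H) :
    ∃ M, M ≤ H ∧ P M ∧ ∀ M', P M' → M' ≤ M → M' = M := by
  induction hn : Nat.card H using Nat.strong_induction_on generalizing H with
  | _ n ih =>
    by_cases h : ∀ M', P M' → M' ≤ H → M' = H
    · exact ⟨H, le_rfl, hH, h⟩
    · push Not at h
      obtain ⟨M', hP, hle, hne⟩ := h
      have hlt : Nat.card M' < n := by
        subst hn
        by_contra hge
        exact hne (Subgroup.eq_of_le_of_card_ge hle (not_lt.mp hge))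
      obtain ⟨M, h1, h2, h3⟩ := ih _ hlt hP rfl
      exact ⟨M, h1.trans hle, h2, h3⟩

theorem exists_minimal_normal [Finite G] {H : Subgroup G} (hH : H ≠ ⊥) (hn : H.Normal) :
    ∃ N, N ≤ H ∧ N.Normal ∧ N ≠ ⊥ ∧ ∀ M : Subgroup G, M.Normal → M ≤ N → M = ⊥ ∨ M = N := by
  obtain ⟨N, h1, ⟨h2, h3⟩, h4⟩ :=
    exists_minimal_le (fun M : Subgroup G => M.Normal ∧ M ≠ ⊥) (H := H) ⟨hn, hH⟩
  refine ⟨N, h1, h2, h3, fun M hM hle => ?_⟩
  by_cases hb : M = ⊥
  · exact Or.inl hb
  · exact Or.inr (h4 M ⟨hM, hb⟩ hle)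

/-- The data of a simple direct factor `T` of a minimal normal subgroup `N`. -/
structure SimpleFactor (N T : Subgroup G) : Prop where
  le : T ≤ N
  simple : IsSimpleGroup T
  nonabelian : ¬ IsMulCommutative T
  conj_mem : ∀ n ∈ N, ∀ t ∈ T, n * t * n⁻¹ ∈ T
  conj_le : ∀ g : G, T.map (MulAut.conj g).toMonoidHom ≤ N
  commute : ∀ g g' : G, T.map (MulAut.conj g).toMonoidHom ≠ T.map (MulAut.conj g').toMonoidHom →
    (∀ a ∈ T.map (MulAut.conj g).toMonoidHom, ∀ b ∈ T.map (MulAut.conj g').toMonoidHom,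
      a * b = b * a) ∧ T.map (MulAut.conj g).toMonoidHom ⊓ T.map (MulAut.conj g').toMonoidHom = ⊥
  generate : Subgroup.normalClosure (T : Set G) = N

/-- The conjugate of a subgroup. -/
def cj (g : G) (T : Subgroup G) : Subgroup G := T.map (MulAut.conj g).toMonoidHom

theorem mem_cj {g : G} {T : Subgroup G} {x : G} : x ∈ cj g T ↔ g⁻¹ * x * g ∈ T := by
  unfold cj
  rw [Subgroup.mem_map]
  constructor
  · rintro ⟨t, ht, rfl⟩
    simpa [mul_assoc] using ht
  · intro h
    exact ⟨_, h, by simp [mul_assoc]⟩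

theorem conj_mem_cj {g : G} {T : Subgroup G} {x : G} (hx : x ∈ T) : g * x * g⁻¹ ∈ cj g T := by
  rw [mem_cj]; simpa [mul_assoc] using hx

theorem cj_one (T : Subgroup G) : cj (1 : G) T = T := by
  ext x; simp [mem_cj]

theorem cj_cj (g g' : G) (T : Subgroup G) : cj g (cj g' T) = cj (g * g') T := by
  ext x; simp [mem_cj, mul_assoc]

theorem cj_mono (g : G) {S T : Subgroup G} (h : S ≤ T) : cj g S ≤ cj g T :=
  Subgroup.map_mono h

theorem cj_normal (g : G) {N : Subgroup G} (hN : N.Normal) : cj g N = N := by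
  ext x
  rw [mem_cj]
  exact ⟨fun h => by simpa [mul_assoc] using hN.conj_mem _ h g,
    fun h => by simpa [mul_assoc] using hN.conj_mem _ h g⁻¹⟩

theorem cj_bot (g : G) : cj g (⊥ : Subgroup G) = ⊥ := Subgroup.map_bot _

theorem cj_eq_self {g : G} {T : Subgroup G} (h : ∀ t ∈ T, g * t * g⁻¹ ∈ T)
    (h' : ∀ t ∈ T, g⁻¹ * t * g ∈ T) : cj g T = T := by
  ext x
  rw [mem_cj]
  exact ⟨fun hx => by simpa [mul_assoc] using h _ hx, fun hx => h' _ hx⟩

theorem exists_simpleFactor [Finite G] {N : Subgroup G} (hN : N.Normal) (hN1 : N ≠ ⊥)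
    (hmin : ∀ M : Subgroup G, M.Normal → M ≤ N → M = ⊥ ∨ M = N) (hna : ¬ IsMulCommutative N) :
    ∃ T, SimpleFactor N T := by
  obtain ⟨T, hTN, ⟨hT1, hTc⟩, hTmin⟩ := exists_minimal_le
    (fun M : Subgroup G => M ≠ ⊥ ∧ ∀ n ∈ N, ∀ t ∈ M, n * t * n⁻¹ ∈ M) (H := N)
    ⟨hN1, fun n hn t ht => N.mul_mem (N.mul_mem hn ht) (N.inv_mem hn)⟩
  -- conjugates are again minimal
  have hle : ∀ g : G, cj g T ≤ N := fun g => (cj_mono g hTN).trans_eq (cj_normal g hN)
  have hinv : ∀ g : G, ∀ n ∈ N, ∀ t ∈ cj g T, n * t * n⁻¹ ∈ cj g T := by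
    intro g n hn t ht
    rw [mem_cj] at ht ⊢
    have hn' : g⁻¹ * n * g ∈ N := by simpa using hN.conj_mem n hn g⁻¹
    simpa [mul_assoc] using hTc _ hn' _ ht
  have hcjmin : ∀ g : G, ∀ M : Subgroup G, M ≤ cj g T → M ≠ ⊥ →
      (∀ n ∈ N, ∀ t ∈ M, n * t * n⁻¹ ∈ M) → M = cj g T := by
    intro g M hM hM1 hMc
    have h1 : cj g⁻¹ M ≤ T := (cj_mono _ hM).trans_eq (by rw [cj_cj]; simp [cj_one])
    have h2 : cj g⁻¹ M ≠ ⊥ := by
      intro h
      apply hM1
      have := congrArg (cj g) h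
      rwa [cj_cj, mul_inv_cancel, cj_one, cj_bot] at this
    have h3 : ∀ n ∈ N, ∀ t ∈ cj g⁻¹ M, n * t * n⁻¹ ∈ cj g⁻¹ M := by
      intro n hn t ht
      rw [mem_cj, inv_inv] at ht ⊢
      have hn' : g * n * g⁻¹ ∈ N := hN.conj_mem n hn g
      simpa [mul_assoc] using hMc _ hn' _ ht
    have := congrArg (cj g) (hTmin _ ⟨h2, h3⟩ h1)
    rwa [cj_cj, mul_inv_cancel, cj_one] at this
  have hdisj : ∀ g g' : G, cj g T ≠ cj g' T → cj g T ⊓ cj g' T = ⊥ := by
    intro g g' hne
    by_contra hb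
    have hc : ∀ n ∈ N, ∀ t ∈ cj g T ⊓ cj g' T, n * t * n⁻¹ ∈ cj g T ⊓ cj g' T :=
      fun n hn t ht => ⟨hinv g n hn t ht.1, hinv g' n hn t ht.2⟩
    exact hne ((hcjmin g _ inf_le_left hb hc).symm.trans (hcjmin g' _ inf_le_right hb hc))
  have hcomm : ∀ g g' : G, cj g T ≠ cj g' T →
      ∀ a ∈ cj g T, ∀ b ∈ cj g' T, a * b = b * a := by
    intro g g' hne a ha b hb
    have h1 : a * b * a⁻¹ * b⁻¹ ∈ cj g T := by
      have := (cj g T).mul_mem ha (hinv g b (hle g' hb) a⁻¹ ((cj g T).inv_mem ha))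
      simpa [mul_assoc] using this
    have h2 : a * b * a⁻¹ * b⁻¹ ∈ cj g' T :=
      (cj g' T).mul_mem (hinv g' a (hle g ha) b hb) ((cj g' T).inv_mem hb)
    have h3 : a * b * a⁻¹ * b⁻¹ ∈ cj g T ⊓ cj g' T := ⟨h1, h2⟩
    rw [hdisj g g' hne, Subgroup.mem_bot] at h3
    calc a * b = a * b * a⁻¹ * b⁻¹ * (b * a) := by group
      _ = b * a := by rw [h3, one_mul]
  -- generation
  have hgen : Subgroup.normalClosure (T : Set G) = N := by
    rcases hmin _ Subgroup.normalClosure_normal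
      (Subgroup.normalClosure_le_normal (fun x hx => hTN hx)) with h | h
    · exfalso
      apply hT1
      rw [eq_bot_iff]
      exact fun x hx => h ▸ Subgroup.subset_normalClosure hx
    · exact h
  have hna' : ¬ IsMulCommutative T := by
    intro hab
    apply hna
    have hall : ∀ g g' : G, ∀ a ∈ cj g T, ∀ b ∈ cj g' T, a * b = b * a := by
      intro g g' a ha b hb
      by_cases he : cj g T = cj g' T
      · rw [← he, mem_cj] at hb
        rw [mem_cj] at ha
        have h := congrArg Subtype.val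
          (hab.is_comm.comm (⟨_, ha⟩ : T) (⟨_, hb⟩ : T))
        simp only [Subgroup.coe_mul] at h
        calc a * b = g * (g⁻¹ * a * g * (g⁻¹ * b * g)) * g⁻¹ := by group
          _ = g * (g⁻¹ * b * g * (g⁻¹ * a * g)) * g⁻¹ := by rw [h]
          _ = b * a := by group
      · exact hcomm g g' he a ha b hb
    have hconjset : ∀ x ∈ Group.conjugatesOfSet (T : Set G), ∃ g, x ∈ cj g T := by
      intro x hx
      obtain ⟨t, ht, hc⟩ := Group.mem_conjugatesOfSet_iff.mp hx
      obtain ⟨g, rfl⟩ := isConj_iff.mp hc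
      exact ⟨g, conj_mem_cj ht⟩
    have h1 : ∀ a ∈ Group.conjugatesOfSet (T : Set G), ∀ b ∈ Group.conjugatesOfSet (T : Set G),
        a * b = b * a := by
      intro a ha b hb
      obtain ⟨g, ha⟩ := hconjset a ha
      obtain ⟨g', hb⟩ := hconjset b hb
      exact hall g g' a ha b hb
    have h2 : IsMulCommutative (Subgroup.normalClosure (T : Set G)) :=
      Subgroup.isMulCommutative_closure h1
    rwa [hgen] at h2
  have hsimple : IsSimpleGroup T := by
    haveI : Nontrivial T := (Subgroup.nontrivial_iff_ne_bot T).mpr hT1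
    refine ⟨fun K hK => ?_⟩
    by_cases hK1 : K = ⊥
    · exact Or.inl hK1
    right
    have hK' : ∀ n ∈ N, ∀ t ∈ K.map T.subtype, n * t * n⁻¹ ∈ K.map T.subtype := by
      intro n hn
      rw [← hgen] at hn
      induction hn using Subgroup.closure_induction with
      | mem x hx =>
        intro t ht
        obtain ⟨k, hk, rfl⟩ := ht
        obtain ⟨s, hs, hc⟩ := Group.mem_conjugatesOfSet_iff.mp hx
        obtain ⟨g, rfl⟩ := isConj_iff.mp hc
        by_cases he : cj g T = T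
        · have hmem : g * s * g⁻¹ ∈ T := he ▸ conj_mem_cj hs
          exact ⟨⟨_, hmem⟩ * k * ⟨_, hmem⟩⁻¹, hK.conj_mem k hk _, rfl⟩
        · have h := hcomm g 1 (by rwa [cj_one]) _ (conj_mem_cj hs) (k : G)
            (by rw [cj_one]; exact k.2)
          refine ⟨k, hk, ?_⟩
          change (k : G) = g * s * g⁻¹ * (k : G) * (g * s * g⁻¹)⁻¹
          rw [h]; group
      | one => intro t ht; simpa using ht
      | mul x y _ _ hx hy => intro t ht; simpa [mul_assoc] using hx _ (hy t ht)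
      | inv x hxN hx =>
        intro t ht
        -- a finite set stable under conjugation by `x` is stable under conjugation by `x⁻¹`
        have hle' : cj x (K.map T.subtype) ≤ K.map T.subtype := by
          intro y hy
          rw [mem_cj] at hy
          simpa [mul_assoc] using hx _ hy
        have heq : cj x (K.map T.subtype) = K.map T.subtype := by
          apply Subgroup.eq_of_le_of_card_ge hle'
          unfold cj
          exact (Subgroup.card_map_of_injective (MulEquiv.injective (MulAut.conj x))).ge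
        have : t ∈ cj x (K.map T.subtype) := heq.symm ▸ ht
        simpa [mem_cj] using this
    have hle' : K.map T.subtype ≤ T := Subgroup.map_subtype_le K
    have hne : K.map T.subtype ≠ ⊥ := by
      rwa [Ne, Subgroup.map_eq_bot_iff_of_injective _ T.subtype_injective]
    have h := hTmin _ ⟨hne, hK'⟩ hle'
    exact Subgroup.map_injective T.subtype_injective (h.trans (by ext x; simp))
  exact ⟨T, hTN, hsimple, hna', hTc, hle, fun g g' h => ⟨hcomm g g' h, hdisj g g' h⟩, hgen⟩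

theorem SimpleFactor.center_trivial {N T : Subgroup G} (hT : SimpleFactor N T) {g z : G}
    (hz : z ∈ cj g T) (hc : ∀ a ∈ cj g T, z * a = a * z) : z = 1 := by
  rw [mem_cj] at hz
  haveI := hT.simple
  rcases (inferInstance : (Subgroup.center T).Normal).eq_bot_or_eq_top with h | h
  · have hm : (⟨_, hz⟩ : T) ∈ Subgroup.center T := by
      rw [Subgroup.mem_center_iff]
      intro t
      apply Subtype.ext
      have := hc (g * (t : G) * g⁻¹) (conj_mem_cj t.2)
      simp only [Subgroup.coe_mul]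
      calc (t : G) * (g⁻¹ * z * g) = g⁻¹ * (g * t * g⁻¹ * z) * g := by group
        _ = g⁻¹ * (z * (g * t * g⁻¹)) * g := by rw [this]
        _ = g⁻¹ * z * g * t := by group
    rw [h, Subgroup.mem_bot] at hm
    have hm' : g⁻¹ * z * g = 1 := congrArg Subtype.val hm
    calc z = g * (g⁻¹ * z * g) * g⁻¹ := by group
      _ = 1 := by rw [hm']; group
  · exfalso
    apply hT.nonabelian
    refine ⟨⟨fun a b => ?_⟩⟩
    have hb : b ∈ Subgroup.center T := h ▸ Subgroup.mem_top b
    exact (Subgroup.mem_center_iff.mp hb) a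

/-- A non-abelian simple group is not a `p`-group. -/
theorem exists_prime_ne_dvd {T : Type*} [Group T] [Finite T] [IsSimpleGroup T]
    (hna : ¬ IsMulCommutative T) {p : ℕ} (hp : p.Prime) :
    ∃ q, q.Prime ∧ q ≠ p ∧ q ∣ Nat.card T := by
  by_contra h
  push Not at h
  haveI := Fact.mk hp
  have hpg : IsPGroup p T := by
    rw [IsPGroup.iff_card]
    exact ⟨_, Nat.eq_prime_pow_of_unique_prime_dvd Nat.card_pos.ne'
      fun {q} hq hd => by_contra fun hne => h q hq hne hd⟩
  haveI := hpg.center_nontrivial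
  rcases (inferInstance : (Subgroup.center T).Normal).eq_bot_or_eq_top with h' | h'
  · exact (Subgroup.nontrivial_iff_ne_bot _).mp inferInstance h'
  · apply hna
    refine ⟨⟨fun a b => ?_⟩⟩
    have hb : b ∈ Subgroup.center T := h' ▸ Subgroup.mem_top b
    exact (Subgroup.mem_center_iff.mp hb) a

/-- Two commuting non-abelian simple subgroups with trivial intersection, the first semiregular. -/
def SemiregularPair (Ω : Type*) [MulAction G Ω] (T S : Subgroup G) : Prop :=
  IsSimpleGroup T ∧ ¬ IsMulCommutative T ∧ IsSimpleGroup S ∧ ¬ IsMulCommutative S ∧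
    T ⊓ S = ⊥ ∧ (∀ a ∈ T, ∀ b ∈ S, a * b = b * a) ∧
    ∀ t ∈ T, ∀ ω : Ω, t • ω = ω → t = 1

/-- The product action situation. -/
def ProductPair (Ω : Type*) [MulAction G Ω] (T S : Subgroup G) : Prop :=
  IsSimpleGroup T ∧ ¬ IsMulCommutative T ∧ IsSimpleGroup S ∧ ¬ IsMulCommutative S ∧
    T ⊓ S = ⊥ ∧ (∀ a ∈ T, ∀ b ∈ S, a * b = b * a) ∧
    ∃ x ∈ T, ∃ x' ∈ S, ∃ y ∈ S, (∀ ω : Ω, x • ω ≠ ω) ∧ y ≠ 1 ∧
      (∀ ω : Ω, ∀ b ∈ S, (x * b) • ω ≠ ω) ∧
      ¬ IsConj x (x * y) ∧ ¬ IsConj x (x * x') ∧ ¬ IsConj (x * y) (x * x')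

theorem affine_data [Finite G] [FaithfulSMul G Ω] [IsPreprimitive G Ω] {N : Subgroup G}
    (hN : N.Normal) (hN1 : N ≠ ⊥) (hmin : ∀ M : Subgroup G, M.Normal → M ≤ N → M = ⊥ ∨ M = N)
    (hab : IsMulCommutative N) :
    ∃ r : ℕ, r.Prime ∧ Cfsg.IsElementaryAbelian r N ∧ IsPretransitive N Ω ∧
      ∀ a : Ω, stabilizer N a = ⊥ := by
  haveI := hN
  haveI htr : IsPretransitive N Ω := PermLib.isPretransitive_of_normal_ne_bot hN1
  haveI : Nontrivial N := (Subgroup.nontrivial_iff_ne_bot N).mpr hN1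
  obtain ⟨r, hr, hrd⟩ := Nat.exists_prime_and_dvd (Nat.ne_of_gt (Finite.one_lt_card (α := N)))
  haveI := Fact.mk hr
  obtain ⟨x, hx⟩ := exists_prime_orderOf_dvd_card' r hrd
  let K : Subgroup G :=
    { carrier := {a | a ∈ N ∧ a ^ r = 1}
      one_mem' := ⟨N.one_mem, one_pow r⟩
      mul_mem' := by
        rintro a b ⟨ha, ha'⟩ ⟨hb, hb'⟩
        refine ⟨N.mul_mem ha hb, ?_⟩
        have hc : Commute a b := congrArg Subtype.val (hab.is_comm.comm (⟨a, ha⟩ : N) ⟨b, hb⟩)
        rw [hc.mul_pow, ha', hb', one_mul]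
      inv_mem' := by
        rintro a ⟨ha, ha'⟩
        exact ⟨N.inv_mem ha, by rw [inv_pow, ha', inv_one]⟩ }
  have hKn : K.Normal := ⟨fun a ha g => ⟨hN.conj_mem a ha.1 g, by rw [conj_pow, ha.2]; group⟩⟩
  have hK : K = N := by
    rcases hmin K hKn (fun a ha => ha.1) with h | h
    · exfalso
      have : (x : G) ∈ K := ⟨x.2, by
        rw [← Subgroup.coe_pow, ← hx, pow_orderOf_eq_one]; rfl⟩
      rw [h, Subgroup.mem_bot] at this
      rw [Subtype.ext this (a2 := (1 : N)), orderOf_one] at hx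
      exact hr.ne_one hx.symm
    · exact h
  refine ⟨r, hr, ⟨hab, ?_⟩, htr, fun a => PermLib.stabilizer_eq_bot_of_isMulCommutative hab a⟩
  intro a ha
  rw [← hK] at ha
  exact ha.2

theorem semiregular_of_centralized [FaithfulSMul G Ω] {C : Subgroup G} [IsPretransitive C Ω]
    {t : G} (h : ∀ c ∈ C, c * t = t * c) {ω : Ω} (hω : t • ω = ω) : t = 1 := by
  apply eq_of_smul_eq_smul (α := Ω)
  intro a
  obtain ⟨⟨c, hc⟩, rfl⟩ := exists_smul_eq C ω a
  change t • c • ω = (1 : G) • c • ω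
  rw [← mul_smul, ← h c hc, mul_smul, hω, one_smul]

/-- For a simple factor of a minimal normal subgroup with a conjugate different from it:
either the factor is semiregular or we are in the product situation. -/
theorem pair_of_conjugate [Finite G] [Finite Ω] [FaithfulSMul G Ω] [IsPreprimitive G Ω]
    [Nontrivial Ω] {N T : Subgroup G} (hN : N.Normal) (hN1 : N ≠ ⊥) (hT : SimpleFactor N T)
    {h : G} (hh : cj h T ≠ T) :
    SemiregularPair Ω T (cj h T) ∨ ProductPair Ω T (cj h T) := by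
  classical
  haveI := hN
  haveI htr : IsPretransitive N Ω := PermLib.isPretransitive_of_normal_ne_bot hN1
  set S := cj h T with hS
  haveI := hT.simple
  let e : T ≃* S := Subgroup.equivMapOfInjective T _ (MulEquiv.injective (MulAut.conj h))
  haveI hSs : IsSimpleGroup S := by
    haveI : Nontrivial S := e.symm.toEquiv.nontrivial
    exact IsSimpleGroup.isSimpleGroup_of_surjective e.toMonoidHom e.surjective
  have hSna : ¬ IsMulCommutative S := fun hc => hT.nonabelian
    ⟨⟨fun a b => e.injective (by rw [map_mul, map_mul]; exact hc.is_comm.comm _ _)⟩⟩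
  have hTS : ∀ a ∈ T, ∀ b ∈ S, a * b = b * a := fun a ha b hb =>
    (hT.commute 1 h (by change cj 1 T ≠ cj h T; rw [cj_one]; exact hh.symm)).1 a
      (by change a ∈ cj 1 T; rwa [cj_one]) b hb
  have hdis : T ⊓ S = ⊥ := by
    have := (hT.commute 1 h (by change cj 1 T ≠ cj h T; rw [cj_one]; exact hh.symm)).2
    change cj 1 T ⊓ cj h T = ⊥ at this
    rwa [cj_one] at this
  by_cases hsr : ∀ t ∈ T, ∀ ω : Ω, t • ω = ω → t = 1
  · exact Or.inl ⟨hT.simple, hT.nonabelian, hSs, hSna, hdis, hTS, hsr⟩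
  right
  push Not at hsr
  obtain ⟨t₀, ht₀, ω₀, hfix₀, ht₀ne⟩ := hsr
  -- elements of `N` act on `T` as elements of `T`
  have hNT : ∀ n ∈ N, ∃ t ∈ T, ∀ a ∈ T, n * a * n⁻¹ = t * a * t⁻¹ := by
    intro n hn
    rw [← hT.generate] at hn
    induction hn using Subgroup.closure_induction with
    | mem x hx =>
      obtain ⟨s, hs, hc⟩ := Group.mem_conjugatesOfSet_iff.mp hx
      obtain ⟨g, rfl⟩ := isConj_iff.mp hc
      by_cases he : cj g T = T
      · exact ⟨_, he ▸ conj_mem_cj hs, fun a _ => rfl⟩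
      · refine ⟨1, T.one_mem, fun a ha => ?_⟩
        have := (hT.commute g 1 (by change cj g T ≠ cj 1 T; rwa [cj_one])).1
          (g * s * g⁻¹) (conj_mem_cj hs) a (by change a ∈ cj 1 T; rwa [cj_one])
        rw [this]; group
    | one => exact ⟨1, T.one_mem, fun a _ => rfl⟩
    | mul x y _ _ hx hy =>
      obtain ⟨t₁, h₁, e₁⟩ := hx
      obtain ⟨t₂, h₂, e₂⟩ := hy
      refine ⟨t₁ * t₂, T.mul_mem h₁ h₂, fun a ha => ?_⟩
      calc x * y * a * (x * y)⁻¹ = x * (y * a * y⁻¹) * x⁻¹ := by group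
        _ = t₁ * (t₂ * a * t₂⁻¹) * t₁⁻¹ := by
          rw [e₂ a ha]; exact e₁ _ (T.mul_mem (T.mul_mem h₂ ha) (T.inv_mem h₂))
        _ = t₁ * t₂ * a * (t₁ * t₂)⁻¹ := by group
    | inv x _ hx =>
      obtain ⟨t₁, h₁, e₁⟩ := hx
      refine ⟨t₁⁻¹, T.inv_mem h₁, fun a ha => ?_⟩
      have := e₁ (t₁⁻¹ * a * t₁) (T.mul_mem (T.mul_mem (T.inv_mem h₁) ha) h₁)
      calc x⁻¹ * a * x⁻¹⁻¹ = x⁻¹ * (t₁ * (t₁⁻¹ * a * t₁) * t₁⁻¹) * x := by group
        _ = x⁻¹ * (x * (t₁⁻¹ * a * t₁) * x⁻¹) * x := by rw [this]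
        _ = t₁⁻¹ * a * t₁⁻¹⁻¹ := by group
  have hmeetT : ∀ ω : Ω, ∃ a ∈ T, a ≠ 1 ∧ a • ω = ω := by
    intro ω
    obtain ⟨⟨n, hn⟩, rfl⟩ := exists_smul_eq N ω₀ ω
    refine ⟨n * t₀ * n⁻¹, hT.conj_mem n hn t₀ ht₀, fun h1 => ht₀ne ?_, ?_⟩
    · calc t₀ = n⁻¹ * (n * t₀ * n⁻¹) * n := by group
        _ = 1 := by rw [h1]; group
    · change (n * t₀ * n⁻¹) • n • ω₀ = n • ω₀
      rw [← mul_smul, inv_mul_cancel_right, mul_smul, hfix₀]
  have hmeet : ∀ (g : G) (ω : Ω), ∃ a ∈ cj g T, a ≠ 1 ∧ a • ω = ω := by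
    intro g ω
    obtain ⟨a, ha, ha1, hfix⟩ := hmeetT (g⁻¹ • ω)
    refine ⟨g * a * g⁻¹, conj_mem_cj ha, fun h1 => ha1 ?_, ?_⟩
    · calc a = g⁻¹ * (g * a * g⁻¹) * g := by group
        _ = 1 := by rw [h1]; group
    · rw [mul_smul, mul_smul, hfix, smul_inv_smul]
  -- key lemma: inside a factor the fixed subgroup is self-normalising
  let NF : G → Ω → G → Prop := fun g ω u =>
    ∀ a, a ∈ cj g T → a • ω = ω → (u * a * u⁻¹) • ω = ω
  have hself : ∀ (g : G) (ω : Ω) (u : G), u ∈ cj g T → NF g ω u → u • ω = ω := by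
    intro g ω
    by_contra hcon
    push Not at hcon
    obtain ⟨u, hu, huN, humove⟩ := hcon
    let U : Set G := {v | ∃ g', v ∈ cj g' T ∧ NF g' ω v}
    let M := Subgroup.closure U
    have hUconj : ∀ s ∈ stabilizer G ω, ∀ v ∈ U, s * v * s⁻¹ ∈ U := by
      rintro s hs v ⟨g', hv, hvN⟩
      refine ⟨s * g', by rw [← cj_cj]; exact conj_mem_cj hv, ?_⟩
      intro a ha hfix
      rw [← cj_cj, mem_cj] at ha
      have hs' : s⁻¹ • ω = ω := by
        rw [inv_smul_eq_iff]; exact hs.symm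
      have h1 := hvN _ ha (by rw [mul_smul, mul_smul, hs, hfix, hs'])
      calc (s * v * s⁻¹ * a * (s * v * s⁻¹)⁻¹) • ω
          = (s * (v * (s⁻¹ * a * s) * v⁻¹) * s⁻¹) • ω := by congr 1; group
        _ = ω := by rw [mul_smul, mul_smul, hs', h1, hs]
    have hMnorm : ∀ s ∈ stabilizer G ω, ∀ m ∈ M, s * m * s⁻¹ ∈ M := by
      intro s hs m hm
      induction hm using Subgroup.closure_induction with
      | mem v hv => exact Subgroup.subset_closure (hUconj s hs v hv)
      | one => simp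
      | mul x y _ _ hx hy => simpa [mul_assoc] using M.mul_mem hx hy
      | inv x _ hx => simpa [mul_assoc] using M.inv_mem hx
    have hcoatom : IsCoatom (stabilizer G ω) :=
      IsPreprimitive.isCoatom_stabilizer_of_isPreprimitive G ω
    have hMN : M ≤ N := by
      rw [Subgroup.closure_le]
      rintro v ⟨g', hv, _⟩
      exact hT.conj_le g' hv
    have htop : stabilizer G ω ⊔ M = ⊤ := by
      rcases lt_or_eq_of_le (le_sup_left : stabilizer G ω ≤ stabilizer G ω ⊔ M) with hlt | heq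
      · exact hcoatom.2 _ hlt
      · exfalso
        apply humove
        have : u ∈ stabilizer G ω := heq.symm ▸
          Subgroup.mem_sup_right (Subgroup.subset_closure ⟨g, hu, huN⟩)
        exact this
    -- so `N` normalises `T ∩ Gω`
    have hdecomp : ∀ g' : G, ∃ m ∈ M, ∃ s ∈ stabilizer G ω, g' = m * s := by
      intro g'
      have hg' : g' ∈ stabilizer G ω ⊔ M := htop.symm ▸ Subgroup.mem_top g'
      rw [sup_comm] at hg'
      rw [Subgroup.sup_eq_closure] at hg'
      induction hg' using Subgroup.closure_induction with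
      | mem x hx =>
        rcases hx with hx | hx
        · exact ⟨x, hx, 1, one_mem _, (mul_one x).symm⟩
        · exact ⟨1, one_mem _, x, hx, (one_mul x).symm⟩
      | one => exact ⟨1, one_mem _, 1, one_mem _, (one_mul 1).symm⟩
      | mul x y _ _ hx hy =>
        obtain ⟨m, hm, s, hs, rfl⟩ := hx
        obtain ⟨m', hm', s', hs', rfl⟩ := hy
        exact ⟨m * (s * m' * s⁻¹), M.mul_mem hm (hMnorm s hs m' hm'), s * s', mul_mem hs hs',
          by group⟩
      | inv x _ hx =>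
        obtain ⟨m, hm, s, hs, rfl⟩ := hx
        exact ⟨s⁻¹ * m⁻¹ * s, by
          simpa using hMnorm s⁻¹ (inv_mem hs) m⁻¹ (M.inv_mem hm), s⁻¹, inv_mem hs, by group⟩
    let R : Subgroup G := T ⊓ stabilizer G ω
    have hR1 : R ≠ ⊥ := by
      obtain ⟨a, ha, ha1, hfix⟩ := hmeetT ω
      intro hb
      have : a ∈ R := ⟨ha, hfix⟩
      rw [hb, Subgroup.mem_bot] at this
      exact ha1 this
    have hRM : ∀ m ∈ M, ∀ r ∈ R, m * r * m⁻¹ ∈ R := by
      have hgens : ∀ v ∈ U, ∀ r ∈ R, v * r * v⁻¹ ∈ R := by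
        rintro v ⟨g', hv, hvN⟩ r hr
        by_cases he : cj g' T = T
        · exact ⟨hT.conj_mem v (hT.conj_le g' hv) r hr.1, hvN r (he.symm ▸ hr.1) hr.2⟩
        · have := (hT.commute g' 1 (by change cj g' T ≠ cj 1 T; rwa [cj_one])).1 v hv r
            (by change r ∈ cj 1 T; rw [cj_one]; exact hr.1)
          rw [this, mul_inv_cancel_right]
          exact hr
      intro m hm
      induction hm using Subgroup.closure_induction with
      | mem v hv => exact hgens v hv
      | one => intro r hr; simpa using hr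
      | mul x y _ _ hx hy => intro r hr; simpa [mul_assoc] using hx _ (hy r hr)
      | inv x _ hx =>
        intro r hr
        have hle' : cj x R ≤ R := by
          intro y hy
          rw [mem_cj] at hy
          simpa [mul_assoc] using hx _ hy
        have heq : cj x R = R := by
          apply Subgroup.eq_of_le_of_card_ge hle'
          unfold cj
          exact (Subgroup.card_map_of_injective (MulEquiv.injective (MulAut.conj x))).ge
        have : r ∈ cj x R := heq.symm ▸ hr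
        simpa [mem_cj] using this
    have hRN : ∀ n ∈ N, ∀ r ∈ R, n * r * n⁻¹ ∈ R := by
      intro n hn r hr
      obtain ⟨m, hm, s, hs, rfl⟩ := hdecomp n
      have hsN : s ∈ N := by simpa [← mul_assoc] using N.mul_mem (N.inv_mem (hMN hm)) hn
      have h1 : s * r * s⁻¹ ∈ R :=
        ⟨hT.conj_mem s hsN r hr.1,
          (stabilizer G ω).mul_mem ((stabilizer G ω).mul_mem hs hr.2) ((stabilizer G ω).inv_mem hs)⟩
      simpa [mul_assoc] using hRM m hm _ h1
    haveI : (R.subgroupOf T).Normal := ⟨fun r hr t => hRN t (hT.le t.2) r hr⟩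
    rcases (inferInstance : (R.subgroupOf T).Normal).eq_bot_or_eq_top with hb | ht
    · apply hR1
      rw [eq_bot_iff]
      intro r hr
      have : (⟨r, hr.1⟩ : T) ∈ R.subgroupOf T := hr
      rw [hb, Subgroup.mem_bot] at this
      exact congrArg Subtype.val this
    · apply ht₀ne
      have hfixall : ∀ a : Ω, t₀ • a = a := by
        intro a
        obtain ⟨⟨n, hn⟩, rfl⟩ := exists_smul_eq N ω a
        have h2 : n⁻¹ * t₀ * n ∈ T := by simpa using hT.conj_mem n⁻¹ (N.inv_mem hn) t₀ ht₀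
        have h3 : (⟨_, h2⟩ : T) ∈ R.subgroupOf T := ht ▸ Subgroup.mem_top _
        have h4 : (n⁻¹ * t₀ * n) • ω = ω := h3.2
        change t₀ • n • ω = n • ω
        calc t₀ • n • ω = n • ((n⁻¹ * t₀ * n) • ω) := by simp [mul_smul]
          _ = n • ω := by rw [h4]
      exact eq_of_smul_eq_smul fun a => by rw [hfixall a, one_smul]
  -- criterion for fixed points
  have hcrit : ∀ (g : G) (a c : G) (ω : Ω), a ∈ cj g T → (∀ b ∈ cj g T, c * b = b * c) →
      (a * c) • ω = ω → a • ω = ω := by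
    intro g a c ω ha hc hfix
    apply hself g ω a ha
    intro b hb hbfix
    have hb' : a * b * a⁻¹ = a * c * b * (a * c)⁻¹ := by
      calc a * b * a⁻¹ = a * (b * c) * c⁻¹ * a⁻¹ := by group
        _ = a * (c * b) * c⁻¹ * a⁻¹ := by rw [hc b hb]
        _ = _ := by group
    have hfix' : (a * c)⁻¹ • ω = ω := by rw [inv_smul_eq_iff]; exact hfix.symm
    rw [hb', mul_smul, mul_smul, hfix', hbfix, hfix]
  -- a derangement inside `T`
  obtain ⟨ω⟩ : Nonempty Ω := inferInstance
  obtain ⟨x, hxT, hx⟩ : ∃ x ∈ T, ∀ a : Ω, x • a ≠ a := by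
    haveI : Nontrivial (orbit T ω) := by
      have hsub : ¬ ∀ a ∈ T, a • ω = ω := by
        intro hfix
        apply ht₀ne
        apply eq_of_smul_eq_smul (α := Ω)
        intro a
        obtain ⟨⟨n, hn⟩, rfl⟩ := exists_smul_eq N ω a
        have h4 := hfix _ (by simpa using hT.conj_mem n⁻¹ (N.inv_mem hn) t₀ ht₀ :
          n⁻¹ * t₀ * n ∈ T)
        change t₀ • n • ω = (1 : G) • n • ω
        rw [one_smul]
        calc t₀ • n • ω = n • ((n⁻¹ * t₀ * n) • ω) := by simp [mul_smul]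
          _ = n • ω := by rw [h4]
      push Not at hsub
      obtain ⟨a, ha, hne⟩ := hsub
      exact ⟨⟨⟨ω, mem_orbit_self ω⟩, ⟨a • ω, mem_orbit ω (⟨a, ha⟩ : T)⟩,
        fun hcon => hne (congrArg Subtype.val hcon).symm⟩⟩
    obtain ⟨⟨x, hxT⟩, hx⟩ := PermLib.exists_forall_smul_ne (G := T) (α := orbit T ω)
    refine ⟨x, hxT, fun a hfix => ?_⟩
    obtain ⟨⟨n, hn⟩, rfl⟩ := exists_smul_eq N ω a
    obtain ⟨t, ht, htn⟩ := hNT n hn
    -- `n⁻¹ x n` fixes `ω`, and it equals `t⁻¹ x t`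
    have hy : t⁻¹ * x * t ∈ T := T.mul_mem (T.mul_mem (T.inv_mem ht) hxT) ht
    have h1 : (t⁻¹ * x * t) • ω = ω := by
      have h2 : n * (t⁻¹ * x * t) * n⁻¹ = x := by rw [htn _ hy]; group
      have h3 : x * n = n * (t⁻¹ * x * t) := by
        calc x * n = n * (t⁻¹ * x * t) * n⁻¹ * n := by rw [h2]
          _ = _ := by group
      change x • n • ω = n • ω at hfix
      rw [← mul_smul, h3, mul_smul] at hfix
      exact smul_left_cancel n hfix
    apply hx ⟨t • ω, mem_orbit ω (⟨t, ht⟩ : T)⟩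
    apply Subtype.ext
    change x • t • ω = t • ω
    calc x • t • ω = t • ((t⁻¹ * x * t) • ω) := by simp [mul_smul]
      _ = t • ω := by rw [h1]
  obtain ⟨y, hyS, hy1, hyfix⟩ := hmeet h ω
  let x' := h * x * h⁻¹
  have hx'S : x' ∈ S := conj_mem_cj hxT
  have hx' : ∀ a : Ω, x' • a ≠ a := by
    intro a hfix
    apply hx (h⁻¹ • a)
    simp only [x', mul_smul] at hfix
    exact eq_inv_smul_iff.mpr hfix
  have hTS' : ∀ b ∈ S, ∀ a ∈ cj 1 T, b * a = a * b := by
    intro b hb a ha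
    rw [cj_one] at ha
    exact (hTS a ha b hb).symm
  have hxb : ∀ a : Ω, ∀ b ∈ S, (x * b) • a ≠ a := fun a b hb hfix =>
    hx a (hcrit 1 x b a (by rwa [cj_one]) (hTS' b hb) hfix)
  -- components
  let D : G → G → Prop := fun g z => ∃ a c, a ∈ cj g T ∧ (∀ b ∈ cj g T, c * b = b * c) ∧
    z = a * c ∧ ∀ w : Ω, a • w ≠ w
  have huniq : ∀ g a c a' c', a ∈ cj g T → a' ∈ cj g T →
      (∀ b ∈ cj g T, c * b = b * c) → (∀ b ∈ cj g T, c' * b = b * c') →
      a * c = a' * c' → a = a' := by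
    intro g a c a' c' ha ha' hc hc' he
    have hm : a'⁻¹ * a = 1 := by
      apply hT.center_trivial (Subgroup.mul_mem _ ((cj g T).inv_mem ha') ha)
      intro b hb
      have h1 : a'⁻¹ * a = c' * c⁻¹ := by
        calc a'⁻¹ * a = a'⁻¹ * (a * c) * c⁻¹ := by group
          _ = a'⁻¹ * (a' * c') * c⁻¹ := by rw [he]
          _ = _ := by group
      have h2 : c⁻¹ * b = b * c⁻¹ := (Commute.inv_left (hc b hb))
      rw [h1, mul_assoc, h2, ← mul_assoc, hc' b hb, mul_assoc]
    calc a = a' * (a'⁻¹ * a) := by group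
      _ = a' := by rw [hm, mul_one]
  have hDconj : ∀ g s z, D g z → D (s * g) (s * z * s⁻¹) := by
    rintro g s z ⟨a, c, ha, hc, rfl, hd⟩
    refine ⟨s * a * s⁻¹, s * c * s⁻¹, by rw [← cj_cj]; exact conj_mem_cj ha, ?_, by group, ?_⟩
    · intro b hb
      rw [← cj_cj, mem_cj] at hb
      calc s * c * s⁻¹ * b = s * (c * (s⁻¹ * b * s)) * s⁻¹ := by group
        _ = s * ((s⁻¹ * b * s) * c) * s⁻¹ := by rw [hc _ hb]
        _ = _ := by group
    · intro w hfix
      simp only [mul_smul] at hfix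
      exact hd (s⁻¹ • w) (eq_inv_smul_iff.mpr hfix)
  -- only the component `T` of `x * b` with `b` fixing a point is a derangement
  have honly : ∀ b ∈ S, (∃ w : Ω, b • w = w) → ∀ g, D g (x * b) → cj g T = T := by
    rintro b hb ⟨w, hw⟩ g ⟨a, c, ha, hc, he, hd⟩
    by_contra hne
    have hcomm : ∀ v ∈ cj g T, x * v = v * x := fun v hv =>
      ((hT.commute g 1 (by change cj g T ≠ cj 1 T; rwa [cj_one])).1 v hv x
        (by change x ∈ cj 1 T; rwa [cj_one])).symm
    by_cases hgS : cj g T = S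
    · have : b = a := huniq g b x a c (hgS.symm ▸ hb) ha hcomm hc
        (by rw [← hTS x hxT b hb, he])
      exact hd w (this ▸ hw)
    · have : (1 : G) = a := by
        apply huniq g 1 (x * b) a c (one_mem _) ha ?_ hc (by rw [one_mul, he])
        intro v hv
        have h2 : b * v = v * b :=
          (((hT.commute g h hgS).1 v hv b hb)).symm
        rw [mul_assoc, h2, ← mul_assoc, hcomm v hv, mul_assoc]
      exact hd w (this ▸ one_smul G w)
  have hDT : D 1 (x * x') :=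
    ⟨x, x', by rwa [cj_one], fun a ha => hTS' x' hx'S a ha, rfl, hx⟩
  have hDS : D h (x * x') :=
    ⟨x', x, hx'S, fun v hv => hTS x hxT v hv, hTS x hxT x' hx'S, hx'⟩
  have hkey : ∀ b ∈ S, (∃ w : Ω, b • w = w) → ¬ IsConj (x * b) (x * x') := by
    intro b hb hbw hc
    obtain ⟨s, hs⟩ := isConj_iff.mp hc
    have hback : s⁻¹ * (x * x') * s⁻¹⁻¹ = x * b := by rw [← hs]; group
    have h1 := honly b hb hbw _ (hback ▸ hDconj 1 s⁻¹ _ hDT)
    have h2 := honly b hb hbw _ (hback ▸ hDconj h s⁻¹ _ hDS)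
    rw [mul_one] at h1
    apply hh
    calc S = cj s (cj (s⁻¹ * h) T) := by rw [cj_cj, mul_inv_cancel_left]
      _ = cj s (cj s⁻¹ T) := by rw [h2, h1]
      _ = T := by rw [cj_cj, mul_inv_cancel, cj_one]
  refine ⟨hT.simple, hT.nonabelian, hSs, hSna, hdis, hTS, x, hxT, x', hx'S, y, hyS, hx, hy1,
    hxb, ?_, ?_, hkey y hyS ⟨ω, hyfix⟩⟩
  · intro hc
    obtain ⟨s, hs⟩ := isConj_iff.mp hc
    have hmem : x * y ∈ cj s T := hs ▸ conj_mem_cj hxT
    by_cases h1 : cj s T = T
    · rw [h1] at hmem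
      have : y ∈ T ⊓ S := ⟨(T.mul_mem_cancel_left hxT).mp hmem, hyS⟩
      rw [hdis, Subgroup.mem_bot] at this
      exact hy1 this
    · -- `x` lies in the centre of `T`
      have hx1 : x = 1 := by
        apply hT.center_trivial (g := 1) (by rwa [cj_one])
        intro v hv
        have h3 : (x * y) * v = v * (x * y) :=
          (hT.commute s 1 (by change cj s T ≠ cj 1 T; rwa [cj_one])).1 _ hmem v hv
        have h4 := hTS' y hyS v hv
        calc x * v = x * (v * y) * y⁻¹ := by group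
          _ = x * (y * v) * y⁻¹ := by rw [h4]
          _ = x * y * v * y⁻¹ := by group
          _ = v * (x * y) * y⁻¹ := by rw [h3]
          _ = v * x := by group
      exact hx ω (hx1 ▸ one_smul G ω)
  · have := hkey 1 S.one_mem ⟨ω, one_smul G ω⟩
    rwa [mul_one] at this

/-- Trichotomy for finite primitive groups. -/
theorem trichotomy [Finite G] [Finite Ω] [FaithfulSMul G Ω] [IsPreprimitive G Ω] [Nontrivial Ω] :
    (∃ (N : Subgroup G) (r : ℕ), r.Prime ∧ N.Normal ∧ N ≠ ⊥ ∧ Cfsg.IsElementaryAbelian r N ∧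
      IsPretransitive N Ω ∧ ∀ a : Ω, stabilizer N a = ⊥) ∨
    (∃ T : Subgroup G, T.Normal ∧ IsSimpleGroup T ∧ ¬ IsMulCommutative T ∧
      Subgroup.centralizer (T : Set G) = ⊥) ∨
    (∃ T S : Subgroup G, SemiregularPair Ω T S ∨ ProductPair Ω T S) := by
  classical
  haveI : Nontrivial G := by
    obtain ⟨a, b, hab⟩ := exists_pair_ne Ω
    obtain ⟨g, hg⟩ := exists_smul_eq G a b
    exact ⟨g, 1, fun h => hab (by rw [← hg, h, one_smul])⟩
  obtain ⟨N, -, hN, hN1, hmin⟩ :=
    exists_minimal_normal (H := (⊤ : Subgroup G)) top_ne_bot inferInstance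
  by_cases hab : IsMulCommutative N
  · obtain ⟨r, h1, h2, h3, h4⟩ := affine_data (Ω := Ω) hN hN1 hmin hab
    exact Or.inl ⟨N, r, h1, hN, hN1, h2, h3, h4⟩
  obtain ⟨T, hT⟩ := exists_simpleFactor hN hN1 hmin hab
  by_cases hk : ∃ g, cj g T ≠ T
  · obtain ⟨g, hg⟩ := hk
    exact Or.inr (Or.inr ⟨T, cj g T, pair_of_conjugate hN hN1 hT hg⟩)
  push Not at hk
  have hTn : T.Normal := ⟨fun t ht g => by
    have := conj_mem_cj (g := g) ht
    rwa [hk g] at this⟩
  by_cases hC : Subgroup.centralizer (T : Set G) = ⊥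
  · exact Or.inr (Or.inl ⟨T, hTn, hT.simple, hT.nonabelian, hC⟩)
  have hCn : (Subgroup.centralizer (T : Set G)).Normal := Subgroup.normal_centralizer
  obtain ⟨M, hMC, hM, hM1, hMmin⟩ := exists_minimal_normal hC hCn
  by_cases habM : IsMulCommutative M
  · obtain ⟨r, h1, h2, h3, h4⟩ := affine_data (Ω := Ω) hM hM1 hMmin habM
    exact Or.inl ⟨M, r, h1, hM, hM1, h2, h3, h4⟩
  obtain ⟨S, hS⟩ := exists_simpleFactor hM hM1 hMmin habM
  haveI := hCn
  haveI : IsPretransitive (Subgroup.centralizer (T : Set G)) Ω :=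
    PermLib.isPretransitive_of_normal_ne_bot hC
  have hcomm : ∀ a ∈ T, ∀ b ∈ S, a * b = b * a := fun a ha b hb =>
    Subgroup.mem_centralizer_iff.mp (hMC (hS.le hb)) a ha
  refine Or.inr (Or.inr ⟨T, S, Or.inl ⟨hT.simple, hT.nonabelian, hS.simple, hS.nonabelian, ?_,
    hcomm, ?_⟩⟩)
  · rw [eq_bot_iff]
    rintro z ⟨hz1, hz2⟩
    rw [Subgroup.mem_bot]
    apply hT.center_trivial (g := 1) (by rw [cj_one]; exact hz1)
    intro a ha
    rw [cj_one] at ha
    exact (hcomm a ha z hz2).symm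
  · intro t ht ω hω
    exact semiregular_of_centralized (C := Subgroup.centralizer (T : Set G))
      (fun c hc => (Subgroup.mem_centralizer_iff.mp hc t ht).symm) hω

end Cfsg.Agent.PrimStruct
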