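import Mathlib
import Cfsg.Agent.Perm.Basic
import Cfsg.Agent.Perm.Regular

/-!
Counting fixed points: normal subgroups containing all derangements of a transitive group.
-/

set_option linter.style.haveILetI false

namespace Cfsg.Agent.PrimStruct

open MulAction Subgroup

variable {G X : Type*} [Group G] [MulAction G X]

theorem sum_card_fixedBy [Fintype G] [Finite X] :
    ∑ g : G, Nat.card (fixedBy X g) = Nat.card (orbitRel.Quotient G X) * Nat.card G := by
  classical
  haveI := Fintype.ofFinite X
  haveI := Fintype.ofFinite (orbitRel.Quotient G X)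
  simp only [Nat.card_eq_fintype_card]
  exact MulAction.sum_card_fixedBy_eq_card_orbits_mul_card_group G X

theorem card_orbits_eq_one [IsPretransitive G X] [Nonempty X] :
    Nat.card (orbitRel.Quotient G X) = 1 := by
  rw [Nat.card_eq_one_iff_unique]
  exact ⟨(pretransitive_iff_subsingleton_quotient G X).mp inferInstance,
    Nonempty.map Quotient.mk'' inferInstance⟩

theorem sum_split [Fintype G] (D : Subgroup G) [DecidablePred (· ∈ D)] [Finite X] :
    Nat.card (orbitRel.Quotient D X) * Nat.card D +
      ∑ g : {g : G // g ∉ D}, Nat.card (fixedBy X (g : G)) =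
    Nat.card (orbitRel.Quotient G X) * Nat.card G := by
  rw [← sum_card_fixedBy (G := G), ← sum_card_fixedBy (G := D)]
  convert Fintype.sum_subtype_add_sum_subtype (fun g : G => g ∈ D)
    (fun g : G => Nat.card (fixedBy X g)) using 2 <;> rfl

/-- A subgroup containing all derangements of a transitive group is transitive, and the elements
outside it fix exactly one point. -/
theorem transitive_and_fix_eq_one [Finite G] [Finite X] [IsPretransitive G X] [Nonempty X]
    (D : Subgroup G) (h : ∀ g ∉ D, 1 ≤ Nat.card (fixedBy X g)) :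
    IsPretransitive D X ∧ ∀ g ∉ D, Nat.card (fixedBy X g) = 1 := by
  classical
  haveI := Fintype.ofFinite G
  have hs := sum_split (X := X) D
  rw [card_orbits_eq_one (G := G), one_mul] at hs
  have hcard : Nat.card G = Nat.card D + Fintype.card {g : G // g ∉ D} := by
    rw [Nat.card_eq_fintype_card, Nat.card_eq_fintype_card, Fintype.card_subtype_compl]
    have : Fintype.card D ≤ Fintype.card G := Fintype.card_subtype_le _
    omega
  have hge : ∀ g : {g : G // g ∉ D}, 1 ≤ Nat.card (fixedBy X (g : G)) := fun g => h g g.2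
  have hsum : Fintype.card {g : G // g ∉ D} ≤
      ∑ g : {g : G // g ∉ D}, Nat.card (fixedBy X (g : G)) := by
    rw [Fintype.card_eq_sum_ones]
    exact Finset.sum_le_sum fun g _ => hge g
  haveI : Nonempty (orbitRel.Quotient D X) := Nonempty.map Quotient.mk'' inferInstance
  have hr : 1 ≤ Nat.card (orbitRel.Quotient D X) := Nat.card_pos
  have hDpos : 0 < Nat.card D := Nat.card_pos
  have hr1 : Nat.card (orbitRel.Quotient D X) = 1 := by
    refine le_antisymm ?_ hr
    by_contra hne
    have : 2 * Nat.card D ≤ Nat.card (orbitRel.Quotient D X) * Nat.card D :=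
      Nat.mul_le_mul_right _ (by omega)
    omega
  refine ⟨(pretransitive_iff_subsingleton_quotient D X).mpr
    (Finite.card_le_one_iff_subsingleton.mp hr1.le), fun g hg => ?_⟩
  rw [hr1, one_mul] at hs
  have heq : ∑ _g : {g : G // g ∉ D}, 1 = ∑ g : {g : G // g ∉ D}, Nat.card (fixedBy X (g : G)) := by
    rw [← Fintype.card_eq_sum_ones]
    omega
  exact ((Finset.sum_eq_sum_iff_of_le fun g _ => hge g).mp heq ⟨g, hg⟩ (Finset.mem_univ _)).symm

/-- If `D` is transitive and the elements outside `D` fix at most one point, they fix exactly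
one point. -/
theorem fix_eq_one_of_le_one [Finite G] [Finite X] [Nonempty X] (D : Subgroup G)
    [IsPretransitive D X] (h : ∀ g ∉ D, Nat.card (fixedBy X g) ≤ 1) :
    ∀ g ∉ D, Nat.card (fixedBy X g) = 1 := by
  classical
  haveI := Fintype.ofFinite G
  haveI : IsPretransitive G X := IsPretransitive.of_smul_eq (fun g : D => (g : G)) rfl
  have hs := sum_split (X := X) D
  rw [card_orbits_eq_one (G := G), card_orbits_eq_one (G := D), one_mul, one_mul] at hs
  have hcard : Nat.card G = Nat.card D + Fintype.card {g : G // g ∉ D} := by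
    rw [Nat.card_eq_fintype_card, Nat.card_eq_fintype_card, Fintype.card_subtype_compl]
    have : Fintype.card D ≤ Fintype.card G := Fintype.card_subtype_le _
    omega
  intro g hg
  have heq : ∑ g : {g : G // g ∉ D}, Nat.card (fixedBy X (g : G)) =
      ∑ _g : {g : G // g ∉ D}, 1 := by
    rw [← Fintype.card_eq_sum_ones]; omega
  exact (Finset.sum_eq_sum_iff_of_le fun (g : {g : G // g ∉ D}) _ => h g g.2).mp heq ⟨g, hg⟩
    (Finset.mem_univ _)

theorem relIndex_stabilizer_eq_index (D : Subgroup G) [D.Normal] [IsPretransitive D X] (x : X) :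
    D.relIndex (stabilizer G x) = D.index := by
  rw [← Subgroup.relIndex_sup_left (stabilizer G x) D, PermLib.sup_stabilizer_eq_top D x,
    Subgroup.relIndex_top_right]

theorem index_dvd_card_orbit (D : Subgroup G) [D.Normal] [IsPretransitive D X] {x y : X}
    (h : stabilizer G x ⊓ stabilizer G y ≤ D) :
    D.index ∣ Nat.card (orbit (stabilizer G x) y) := by
  have hle : stabilizer (stabilizer G x) y ≤ D.subgroupOf (stabilizer G x) :=
    fun s hs => h ⟨s.2, hs⟩
  have := Subgroup.index_dvd_of_le hle
  rwa [← Subgroup.relIndex, relIndex_stabilizer_eq_index D x, index_stabilizer,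
    ← Nat.card_coe_set_eq] at this

/-- If two-point stabilisers lie in the transitive normal subgroup `D`, then `[G : D]` divides
the number of points minus one. -/
theorem index_dvd_card_sub_one [Finite X] (D : Subgroup G) [D.Normal]
    [IsPretransitive D X] (h : ∀ x y : X, x ≠ y → stabilizer G x ⊓ stabilizer G y ≤ D) (x : X) :
    D.index ∣ Nat.card X - 1 := by
  classical
  haveI := Fintype.ofFinite X
  let Y := SubMulAction.ofStabilizer G x
  haveI : Fintype (orbitRel.Quotient (stabilizer G x) Y) := Fintype.ofFinite _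
  have hY : Nat.card Y = Nat.card X - 1 := by
    rw [Nat.card_congr (Equiv.subtypeEquivRight (fun z => SubMulAction.mem_ofStabilizer_iff G x) :
      Y ≃ {z : X // z ≠ x}), Nat.card_eq_fintype_card, Nat.card_eq_fintype_card]
    simp [Fintype.card_subtype_compl]
  rw [← hY, Nat.card_congr (selfEquivSigmaOrbits (stabilizer G x) Y), Nat.card_sigma]
  refine Finset.dvd_sum fun q _ => ?_
  obtain ⟨y, hy⟩ : ∃ y : Y, y = q.out := ⟨_, rfl⟩
  rw [← hy]
  have hne : (y : X) ≠ x := SubMulAction.mem_ofStabilizer_iff G x |>.mp y.2
  have h1 := index_dvd_card_orbit D (h x y hne.symm)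
  rwa [Nat.card_congr ((Equiv.Set.image Subtype.val (orbit (stabilizer G x) y)
    Subtype.val_injective).trans (Equiv.setCongr (by
      ext z
      constructor
      · rintro ⟨_, ⟨s, rfl⟩, rfl⟩; exact ⟨s, rfl⟩
      · rintro ⟨s, rfl⟩; exact ⟨_, ⟨s, rfl⟩, rfl⟩ :
      Subtype.val '' orbit (stabilizer G x) y = orbit (stabilizer G x) (y : X))))]

end Cfsg.Agent.PrimStruct

namespace Cfsg.Agent.PrimStruct

open MulAction Subgroup

variable {G X : Type*} [Group G] [MulAction G X]

/-- The subgroup generated by the derangements. -/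
def derangementSubgroup (G X : Type*) [Group G] [MulAction G X] : Subgroup G :=
  Subgroup.closure {g : G | ∀ ω : X, g • ω ≠ ω}

theorem derangementSubgroup_normal : (derangementSubgroup G X).Normal := by
  constructor
  intro n hn g
  unfold derangementSubgroup at hn ⊢
  induction hn using Subgroup.closure_induction with
  | mem x hx =>
    refine Subgroup.subset_closure fun ω hω => ?_
    simp only [mul_smul] at hω
    exact hx (g⁻¹ • ω) (eq_inv_smul_iff.mpr hω)
  | one => simp
  | mul x y _ _ hx hy => simpa using Subgroup.mul_mem _ hx hy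
  | inv x _ hx => simpa [mul_assoc] using Subgroup.inv_mem _ hx

theorem one_le_fix_of_notMem [Finite X] {g : G} (hg : g ∉ derangementSubgroup G X) :
    1 ≤ Nat.card (fixedBy X g) := by
  by_contra h
  refine hg (Subgroup.subset_closure fun ω hω => h ?_)
  haveI : Nonempty (fixedBy X g) := ⟨⟨ω, hω⟩⟩
  exact Nat.card_pos

theorem derangementSubgroup_spec [Finite G] [Finite X] [IsPretransitive G X] [Nonempty X] :
    IsPretransitive (derangementSubgroup G X) X ∧
      ∀ g ∉ derangementSubgroup G X, Nat.card (fixedBy X g) = 1 :=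
  transitive_and_fix_eq_one _ fun _ => one_le_fix_of_notMem

theorem two_point_stabilizer_le [Finite G] [Finite X] [IsPretransitive G X] {x y : X}
    (hxy : x ≠ y) : stabilizer G x ⊓ stabilizer G y ≤ derangementSubgroup G X := by
  rintro g ⟨hx, hy⟩
  haveI : Nonempty X := ⟨x⟩
  by_contra hg
  obtain ⟨hs, -⟩ := Nat.card_eq_one_iff_unique.mp (derangementSubgroup_spec.2 g hg)
  exact hxy (congrArg Subtype.val (hs.elim (⟨x, hx⟩ : fixedBy X g) ⟨y, hy⟩))

theorem index_derangementSubgroup_dvd [Finite G] [Finite X] [IsPretransitive G X] (x : X) :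
    (derangementSubgroup G X).index ∣ Nat.card X - 1 := by
  haveI := derangementSubgroup_normal (G := G) (X := X)
  haveI : Nonempty X := ⟨x⟩
  haveI := (derangementSubgroup_spec (G := G) (X := X)).1
  exact index_dvd_card_sub_one _ (fun _ _ => two_point_stabilizer_le) x

end Cfsg.Agent.PrimStruct
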