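import Cfsg.Agent.PGroup.Basic
import Mathlib

/-!
Fixed point free elements of order `p` in two-closed groups of degree `2p²`.
-/

set_option autoImplicit false

open MulAction

namespace Cfsg.Agent.PrimStruct

variable {G Ω : Type*} [Group G] [Finite G] [MulAction G Ω] [Finite Ω]

theorem sylow_orbit_dvd [IsPretransitive G Ω] {p k : ℕ} [Fact p.Prime] (P : Sylow p G)
    (h : p ^ k ∣ Nat.card Ω) (a : Ω) : p ^ k ∣ (orbit (P : Subgroup G) a).ncard := by
  have hp := (Fact.out : p.Prime)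
  rw [← MulAction.index_stabilizer]
  have h1 : (stabilizer (P : Subgroup G) a) = (stabilizer G a).subgroupOf (P : Subgroup G) := rfl
  rw [h1, ← Subgroup.relIndex]
  have h2 : (stabilizer G a).relIndex (P : Subgroup G) * (P : Subgroup G).index =
      (P : Subgroup G).relIndex (stabilizer G a) * (stabilizer G a).index := by
    rw [← Subgroup.inf_relIndex_right (stabilizer G a) (P : Subgroup G),
      Subgroup.relIndex_mul_index inf_le_right,
      ← Subgroup.inf_relIndex_right (P : Subgroup G) (stabilizer G a),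
      Subgroup.relIndex_mul_index inf_le_right, inf_comm]
  rw [index_stabilizer_of_transitive] at h2
  exact (((hp.coprime_iff_not_dvd.mpr P.not_dvd_index).pow_left k)).dvd_of_dvd_mul_right
    (h2 ▸ h.mul_left _)

theorem fix_orbit_of_commute_mod {H : Type*} [Group H] [MulAction H Ω] {c : H} (K : Subgroup H)
    [K.Normal] {O : Set Ω} (hO : ∀ a ∈ O, ∀ b ∈ O, ∃ g : H, g • a = b)
    (hK : ∀ k ∈ K, ∀ a ∈ O, k • a = a) (hc : ∀ g : H, g⁻¹ * c⁻¹ * g * c ∈ K)
    {a : Ω} (ha : a ∈ O) (hfix : c • a = a) : ∀ b ∈ O, c • b = b := by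
  intro b hb
  obtain ⟨g, rfl⟩ := hO a ha b hb
  have h1 := hK _ (hc g) a ha
  rw [mul_smul, mul_smul, mul_smul, hfix, inv_smul_eq_iff, inv_smul_eq_iff] at h1
  exact h1.symm

/-- The core of the two-orbit case. -/
theorem exists_fpf_of_kernel {H : Type*} [Group H] [Finite H] [MulAction H Ω] [FaithfulSMul H Ω]
    {p : ℕ} [Fact p.Prime] (hH : IsPGroup p H) {O O' : Set Ω} (hcover : ∀ a, a ∈ O ∨ a ∈ O')
    (hinv : ∀ (g : H) (a : Ω), a ∈ O → g • a ∈ O) (hinv' : ∀ (g : H) (a : Ω), a ∈ O' → g • a ∈ O')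
    (hdisj : ∀ a ∈ O, a ∉ O')
    (hO : ∀ a ∈ O, ∀ b ∈ O, ∃ g : H, g • a = b) (hO' : ∀ a ∈ O', ∀ b ∈ O', ∃ g : H, g • a = b)
    (hn : O.ncard = p ^ 2) (hn' : O'.ncard = p ^ 2)
    (hker : ∃ k : H, k ≠ 1 ∧ ∀ a ∈ O, k • a = a) :
    ∃ σ : Equiv.Perm Ω, σ ^ p = 1 ∧ (∀ a, σ a ≠ a) ∧
      ∀ a b : Ω, ∃ g : H, σ a = g • a ∧ σ b = g • b := by
  classical
  have hp := (Fact.out : p.Prime)
  let K : Subgroup H :=
    { carrier := {k | ∀ a ∈ O, k • a = a}
      one_mem' := fun a _ => one_smul _ a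
      mul_mem' := fun {x y} hx hy a ha => by rw [mul_smul, hy a ha, hx a ha]
      inv_mem' := fun {x} hx a ha => inv_smul_eq_iff.mpr (hx a ha).symm }
  haveI : K.Normal := ⟨fun k hk g a ha => by
    rw [mul_smul, mul_smul, hk _ (hinv _ a ha), smul_inv_smul]⟩
  have hKbot : K ≠ ⊥ := by
    obtain ⟨k, hk1, hk⟩ := hker
    exact fun e => hk1 ((Subgroup.mem_bot).mp (e ▸ (show k ∈ K from hk)))
  obtain ⟨z, ⟨hzK, hzc⟩, hz⟩ : ∃ z ∈ K ⊓ Subgroup.center H, orderOf z = p := by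
    have hne : K ⊓ Subgroup.center H ≠ ⊥ := PGroup.inf_center_ne_bot hH K hKbot
    obtain ⟨⟨x, hx⟩, hx1⟩ := Subgroup.ne_bot_iff_exists_ne_one.mp hne
    have hx1' : x ≠ 1 := fun e => hx1 (Subtype.ext e)
    obtain ⟨k, hk⟩ := (IsPGroup.iff_orderOf.mp hH) x
    have hk0 : k ≠ 0 := fun e => hx1' (orderOf_eq_one_iff.mp (by rw [hk, e, pow_zero]))
    refine ⟨x ^ p ^ (k - 1), pow_mem hx _, ?_⟩
    rw [orderOf_pow' _ (pow_ne_zero _ hp.ne_zero), hk,
      Nat.gcd_eq_right (pow_dvd_pow _ (Nat.sub_le k 1)), Nat.pow_div (Nat.sub_le k 1) hp.pos,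
      show k - (k - 1) = 1 by omega, pow_one]
  have hz1 : z ≠ 1 := fun e => hp.one_lt.ne (by rw [← hz, e, orderOf_one])
  have hzfree : ∀ b ∈ O', z • b ≠ b := by
    intro b hb hfix
    refine hz1 (eq_of_smul_eq_smul (α := Ω) fun w => ?_)
    rw [one_smul]
    rcases hcover w with hw | hw
    · exact hzK w hw
    · obtain ⟨g, rfl⟩ := hO' b hb w hw
      rw [← mul_smul, ← Subgroup.mem_center_iff.mp hzc g, mul_smul, hfix]
  obtain ⟨b0, hb0⟩ : O'.Nonempty :=
    Set.nonempty_of_ncard_ne_zero (by rw [hn']; exact pow_ne_zero _ hp.ne_zero)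
  obtain ⟨a0, ha0⟩ : O.Nonempty :=
    Set.nonempty_of_ncard_ne_zero (by rw [hn]; exact pow_ne_zero _ hp.ne_zero)
  have horb' : orbit H b0 = O' := Set.ext fun w =>
    ⟨by rintro ⟨g, rfl⟩; exact hinv' g b0 hb0, fun hw => hO' b0 hb0 w hw⟩
  have horb : orbit H a0 = O := Set.ext fun w =>
    ⟨by rintro ⟨g, rfl⟩; exact hinv g a0 ha0, fun hw => hO a0 ha0 w hw⟩
  let S : Subgroup H := stabilizer H b0 ⊔ K
  have hb0S : stabilizer H b0 < S := by
    refine lt_of_le_of_ne le_sup_left fun e => hzfree b0 hb0 ?_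
    have : z ∈ stabilizer H b0 := by rw [e]; exact Subgroup.mem_sup_right hzK
    exact this
  have hSidx : S.index ∣ p := by
    have h1 : (stabilizer H b0).index = p ^ 2 := by rw [MulAction.index_stabilizer, horb', hn']
    have h2 : S.index ∣ p ^ 2 := h1 ▸ Subgroup.index_dvd_of_le hb0S.le
    obtain ⟨i, hi, he⟩ := (Nat.dvd_prime_pow hp).mp h2
    have h3 : S.index ≠ p ^ 2 := fun e => by
      have := Subgroup.index_strictAnti hb0S
      omega
    have : i ≠ 2 := fun e => h3 (e ▸ he)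
    rw [he]
    calc p ^ i ∣ p ^ 1 := pow_dvd_pow _ (by omega)
      _ = p := pow_one p
  haveI hSn : S.Normal := by
    rcases (Nat.dvd_prime hp).mp hSidx with h | h
    · rw [Subgroup.index_eq_one] at h; rw [h]; infer_instance
    · refine Subgroup.normal_of_index_eq_minFac_card ?_
      obtain ⟨n, hn⟩ := (IsPGroup.iff_card (p := p)).mp hH
      have hn0 : n ≠ 0 := by
        intro e
        rw [e, pow_zero] at hn
        have := S.index_dvd_card
        rw [h, hn, Nat.dvd_one] at this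
        exact hp.ne_one this
      rw [h, hn, Nat.pow_minFac hn0, hp.minFac_eq]
  have hSK : ¬ S ≤ K := by
    intro h
    have h1 : p ^ 2 ∣ S.index := by
      have h2 : (stabilizer H a0).index = p ^ 2 := by rw [MulAction.index_stabilizer, horb, hn]
      exact h2 ▸ Subgroup.index_dvd_of_le (h.trans fun k hk => hk a0 ha0)
    have := Nat.le_of_dvd hp.pos (h1.trans hSidx)
    have := hp.two_le
    nlinarith
  let π := QuotientGroup.mk' K
  haveI : (S.map π).Normal := hSn.map _ (QuotientGroup.mk'_surjective K)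
  have hSbot : S.map π ≠ ⊥ := fun e => hSK (by
    rwa [Subgroup.map_eq_bot_iff, QuotientGroup.ker_mk'] at e)
  obtain ⟨⟨x, hx⟩, hx1⟩ := Subgroup.ne_bot_iff_exists_ne_one.mp
    (PGroup.inf_center_ne_bot (hH.to_quotient K) _ hSbot)
  have hx1' : x ≠ 1 := fun e => hx1 (Subtype.ext e)
  obtain ⟨k, hk⟩ := (IsPGroup.iff_orderOf.mp (hH.to_quotient K)) x
  have hk0 : k ≠ 0 := fun e => hx1' (orderOf_eq_one_iff.mp (by rw [hk, e, pow_zero]))
  set y := x ^ p ^ (k - 1) with hydef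
  have hyo : orderOf y = p := by
    rw [hydef, orderOf_pow' _ (pow_ne_zero _ hp.ne_zero), hk,
      Nat.gcd_eq_right (pow_dvd_pow _ (Nat.sub_le k 1)), Nat.pow_div (Nat.sub_le k 1) hp.pos,
      show k - (k - 1) = 1 by omega, pow_one]
  obtain ⟨hyS, hyc⟩ := (pow_mem hx (p ^ (k - 1)) : y ∈ S.map π ⊓ Subgroup.center _)
  obtain ⟨c, hcS, hcy⟩ := Subgroup.mem_map.mp hyS
  have hcK : c ∉ K := fun h => hp.one_lt.ne (by
    have hy1 : y = 1 := hcy.symm.trans ((QuotientGroup.eq_one_iff c).mpr h)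
    rw [← hyo, hy1, orderOf_one])
  have hcp : c ^ p ∈ K := by
    rw [← QuotientGroup.eq_one_iff, ← QuotientGroup.mk'_apply, map_pow, hcy]
    exact orderOf_dvd_iff_pow_eq_one.mp hyo.dvd
  have hcc : ∀ g : H, g⁻¹ * c⁻¹ * g * c ∈ K := by
    intro g
    rw [← QuotientGroup.eq_one_iff, ← QuotientGroup.mk'_apply]
    simp only [map_mul, map_inv]
    rw [hcy, mul_assoc, Subgroup.mem_center_iff.mp hyc ((QuotientGroup.mk' K) g)]
    group
  have hcfree : ∀ a ∈ O, c • a ≠ a := fun a ha hfix =>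
    hcK (fix_orbit_of_commute_mod K hO (fun k hk a ha => hk a ha) hcc ha hfix)
  have hblock : ∀ s ∈ S, ∀ b ∈ O', ∃ k ∈ K, s • b = k • b := by
    intro s hs b hb
    obtain ⟨g, rfl⟩ := hO' b0 hb0 b hb
    have h2 : g⁻¹ * s * g ∈ (K ⊔ stabilizer H b0) := by
      rw [sup_comm]
      simpa using hSn.conj_mem s hs g⁻¹
    obtain ⟨k, hk, t, ht, hkt⟩ := Subgroup.mem_sup_of_normal_left.mp h2
    refine ⟨g * k * g⁻¹, (inferInstance : K.Normal).conj_mem k hk g, ?_⟩
    rw [← mul_smul, ← mul_smul, show s * g = g * (g⁻¹ * s * g) by group, ← hkt,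
      mul_smul g, mul_smul k, show t • b0 = b0 from ht, inv_mul_cancel_right, mul_smul]
  let σf : Ω → Ω := fun a => if a ∈ O then c • a else z • a
  have hmixed : ∀ a ∈ O, ∀ b, b ∈ O' → ∃ g : H, c • a = g • a ∧ z • b = g • b := by
    intro a ha b hb
    obtain ⟨k, hk, hkb⟩ := hblock c⁻¹ (S.inv_mem hcS) (z • b) (hinv' z b hb)
    refine ⟨c * (k * z), ?_, ?_⟩
    · rw [mul_smul, mul_smul, hzK a ha, hk a ha]
    · rw [mul_smul, mul_smul, ← hkb, smul_inv_smul]
  have hσinj : Function.Injective σf := by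
    intro a b hab
    simp only [σf] at hab
    split_ifs at hab with ha hb hb
    · exact smul_left_cancel _ hab
    · exact absurd (hinv c a ha) (fun h => hdisj _ h (hab ▸ hinv' z b ((hcover b).resolve_left hb)))
    · exact absurd (hinv c b hb) (fun h => hdisj _ h (hab ▸ hinv' z a ((hcover a).resolve_left ha)))
    · exact smul_left_cancel _ hab
  have hiter : ∀ (n : ℕ) (a : Ω), σf^[n] a = if a ∈ O then c ^ n • a else z ^ n • a := by
    intro n a
    induction n with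
    | zero => simp
    | succ n ih =>
      rw [Function.iterate_succ_apply', ih]
      split_ifs with ha
      · simp only [σf, if_pos (hinv _ a ha), smul_smul, ← pow_succ']
      · have : z ^ n • a ∉ O := fun h => hdisj _ h (hinv' _ a ((hcover a).resolve_left ha))
        simp only [σf, if_neg this, smul_smul, ← pow_succ']
  refine ⟨Equiv.ofBijective σf (Finite.injective_iff_bijective.mp hσinj), ?_, ?_, ?_⟩
  · ext a
    rw [Equiv.Perm.coe_pow, Equiv.coe_ofBijective, hiter, Equiv.Perm.one_apply]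
    split_ifs with ha
    · exact hcp a ha
    · rw [← hz, pow_orderOf_eq_one, one_smul]
  · intro a
    simp only [Equiv.ofBijective_apply, σf]
    split_ifs with ha
    · exact hcfree a ha
    · exact hzfree a ((hcover a).resolve_left ha)
  · intro a b
    simp only [Equiv.ofBijective_apply, σf]
    split_ifs with ha hb hb
    · exact ⟨c, rfl, rfl⟩
    · exact hmixed a ha b ((hcover b).resolve_left hb)
    · obtain ⟨g, h1, h2⟩ := hmixed b hb a ((hcover a).resolve_left ha)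
      exact ⟨g, h2, h1⟩
    · exact ⟨z, rfl, rfl⟩

theorem exists_agree_fpf [IsPretransitive G Ω] [FaithfulSMul G Ω] {p : ℕ} [hp : Fact p.Prime]
    (hcard : Nat.card Ω = 2 * p ^ 2) :
    ∃ σ : Equiv.Perm Ω, σ ^ p = 1 ∧ (∀ a, σ a ≠ a) ∧
      ∀ a b : Ω, ∃ g : G, σ a = g • a ∧ σ b = g • b := by
  classical
  obtain ⟨P⟩ : Nonempty (Sylow p G) := inferInstance
  set H : Subgroup G := (P : Subgroup G)
  have hH : IsPGroup p H := P.isPGroup'
  haveI : Finite H := inferInstance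
  haveI : FaithfulSMul H Ω := ⟨fun h => Subtype.ext (eq_of_smul_eq_smul (α := Ω) h)⟩
  have hpos : 0 < Nat.card Ω := by rw [hcard]; have := hp.out.pos; positivity
  obtain ⟨a0⟩ : Nonempty Ω := (Nat.card_pos_iff.mp hpos).1
  have hsize : ∀ a : Ω, ∃ j, (orbit H a).ncard = p ^ j := fun a => by
    obtain ⟨j, hj⟩ := IsPGroup.card_orbit hH a
    exact ⟨j, by rw [← Nat.card_coe_set_eq, hj]⟩
  have hdvd : ∀ a : Ω, p ^ 2 ∣ (orbit H a).ncard := fun a =>
    sylow_orbit_dvd P (hcard ▸ dvd_mul_left _ _) a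
  -- a central element of order `p` without fixed points on a subset
  have hcentral : ∀ z : H, z ∈ Subgroup.center H → ∀ a : Ω, z • a = a →
      ∀ b ∈ orbit H a, z • b = b := by
    rintro z hz a hfix b ⟨g, rfl⟩
    rw [← mul_smul, ← Subgroup.mem_center_iff.mp hz g, mul_smul, hfix]
  have hnt : Nontrivial H := by
    by_contra h
    rw [not_nontrivial_iff_subsingleton] at h
    have h1 := hdvd a0
    have : (orbit H a0).ncard = 1 := by
      rw [← Nat.card_coe_set_eq, Nat.card_eq_one_iff_unique]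
      exact ⟨⟨fun ⟨_, g, rfl⟩ ⟨_, g', rfl⟩ =>
        Subtype.ext (congrArg (· • a0) (Subsingleton.elim g g'))⟩, ⟨⟨a0, mem_orbit_self a0⟩⟩⟩
    rw [this, Nat.dvd_one] at h1
    have := hp.out.two_le
    nlinarith
  haveI := hH.center_nontrivial
  obtain ⟨z, hz⟩ : ∃ z : H, z ∈ Subgroup.center H ∧ orderOf z = p := by
    obtain ⟨k, hk⟩ := (IsPGroup.iff_card (p := p)).mp (hH.to_subgroup (Subgroup.center H))
    have hk0 : k ≠ 0 := fun e => by
      have := Finite.one_lt_card (α := Subgroup.center H)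
      rw [hk, e, pow_zero] at this
      omega
    obtain ⟨x, hx⟩ := exists_prime_orderOf_dvd_card' (G := Subgroup.center H) p (hk ▸ dvd_pow_self p hk0)
    exact ⟨(x : H), x.2, by rw [Subgroup.orderOf_coe, hx]⟩
  have hperm : ∀ g : H, ∀ a b : Ω, ∃ k : G, g • a = k • a ∧ g • b = k • b := fun g a b =>
    ⟨g, rfl, rfl⟩
  have hz1 : z ≠ 1 := fun e => hp.out.one_lt.ne (by rw [← hz.2, e, orderOf_one])
  have hzuse : (∀ a, z • a ≠ a) → ∃ σ : Equiv.Perm Ω, σ ^ p = 1 ∧ (∀ a, σ a ≠ a) ∧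
      ∀ a b : Ω, ∃ g : G, σ a = g • a ∧ σ b = g • b := fun h =>
    ⟨MulAction.toPermHom H Ω z, by rw [← map_pow, ← hz.2, pow_orderOf_eq_one, map_one],
      h, fun a b => hperm z a b⟩
  by_cases htr : ∀ a : Ω, orbit H a = Set.univ
  · exact hzuse fun a hfix => hz1 (eq_of_smul_eq_smul (α := Ω) fun b => by
      rw [one_smul]; exact hcentral z hz.1 a hfix b (by rw [htr a]; trivial))
  simp only [not_forall] at htr
  obtain ⟨a, ha⟩ := htr
  obtain ⟨b, hb⟩ := (Set.ne_univ_iff_exists_notMem _).mp ha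
  have hdis : Disjoint (orbit H a) (orbit H b) := by
    rw [Set.disjoint_left]
    intro w hwa hwb
    exact hb (MulAction.orbit_eq_iff.mp ((MulAction.orbit_eq_iff.mpr hwb).symm.trans (MulAction.orbit_eq_iff.mpr hwa)))
  have hsum := Set.ncard_union_eq hdis
  have hle := Set.ncard_le_ncard (Set.subset_univ (orbit H a ∪ orbit H b))
  rw [Set.ncard_univ, hcard, hsum] at hle
  have hposo : ∀ a : Ω, p ^ 2 ≤ (orbit H a).ncard := fun a =>
    Nat.le_of_dvd ((Set.ncard_pos).mpr ⟨a, mem_orbit_self a⟩) (hdvd a)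
  have hna : (orbit H a).ncard = p ^ 2 := by have := hposo a; have := hposo b; omega
  have hnb : (orbit H b).ncard = p ^ 2 := by have := hposo a; have := hposo b; omega
  have hcover : ∀ w, w ∈ orbit H a ∨ w ∈ orbit H b := by
    intro w
    rw [← Set.mem_union]
    have : orbit H a ∪ orbit H b = Set.univ := Set.eq_of_subset_of_ncard_le (Set.subset_univ _)
      (by rw [hsum, Set.ncard_univ, hcard, hna, hnb]; omega)
    rw [this]; trivial
  have hinv : ∀ (c : Ω) (g : H) (w : Ω), w ∈ orbit H c → g • w ∈ orbit H c := fun c g w hw =>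
    MulAction.mem_orbit_of_mem_orbit g hw
  have htrans : ∀ c : Ω, ∀ u ∈ orbit H c, ∀ w ∈ orbit H c, ∃ g : H, g • u = w := by
    rintro c _ ⟨g, rfl⟩ _ ⟨k, rfl⟩
    exact ⟨k * g⁻¹, by rw [mul_smul, inv_smul_smul]⟩
  by_cases hka : ∃ k : H, k ≠ 1 ∧ ∀ w ∈ orbit H a, k • w = w
  · obtain ⟨σ, h1, h2, h3⟩ := exists_fpf_of_kernel hH hcover (hinv a) (hinv b)
      (fun w hw => Set.disjoint_left.mp hdis hw) (htrans a) (htrans b) hna hnb hka
    exact ⟨σ, h1, h2, fun u w => by obtain ⟨g, e1, e2⟩ := h3 u w; exact ⟨g, e1, e2⟩⟩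
  by_cases hkb : ∃ k : H, k ≠ 1 ∧ ∀ w ∈ orbit H b, k • w = w
  · obtain ⟨σ, h1, h2, h3⟩ := exists_fpf_of_kernel hH (fun w => (hcover w).symm) (hinv b) (hinv a)
      (fun w hw => Set.disjoint_right.mp hdis hw) (htrans b) (htrans a) hnb hna hkb
    exact ⟨σ, h1, h2, fun u w => by obtain ⟨g, e1, e2⟩ := h3 u w; exact ⟨g, e1, e2⟩⟩
  push Not at hka hkb
  refine hzuse fun w hfix => ?_
  rcases hcover w with hw | hw
  · obtain ⟨u, hu, hu'⟩ := hka z hz1
    exact hu' (hcentral z hz.1 w hfix u ((MulAction.orbit_eq_iff.mpr hw) ▸ hu))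
  · obtain ⟨u, hu, hu'⟩ := hkb z hz1
    exact hu' (hcentral z hz.1 w hfix u ((MulAction.orbit_eq_iff.mpr hw) ▸ hu))

end Cfsg.Agent.PrimStruct
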