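import Cfsg.Agent.Suborbit.JordanSet
import Mathlib

/-!
Marggraff: a quasiprimitive group with a Jordan set of size between `2` and less than half of the
degree contains the alternating group.
-/

set_option autoImplicit false
set_option linter.style.haveILetI false

namespace Cfsg.Agent.PrimStruct

open MulAction Finset
open scoped Pointwise

variable {G Ω : Type*} [Group G] [MulAction G Ω]

theorem choose_lt_choose_of_add_lt {N u v : ℕ} (hvu : v < u) (hu : u ≤ N) (h : u + v < N) :
    N.choose v < N.choose u := by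
  have step : ∀ i, 2 * i + 1 < N → N.choose i < N.choose (i + 1) := by
    intro i hi
    have h1 := Nat.choose_succ_right_eq N i
    have h2 : 0 < N.choose i := Nat.choose_pos (by omega)
    by_contra hle
    push Not at hle
    have h3 : N.choose (i + 1) * (i + 1) ≤ N.choose i * (i + 1) := Nat.mul_le_mul_right _ hle
    have h4 : N.choose i * (i + 1) < N.choose i * (N - i) :=
      Nat.mul_lt_mul_of_pos_left (by omega) h2
    omega
  have mono : ∀ w, v < w → 2 * w ≤ N → N.choose v < N.choose w := by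
    intro w hw hwN
    induction w, hw using Nat.le_induction with
    | base => exact step v (by omega)
    | succ w hw ih => exact (ih (by omega)).trans (step w (by omega))
  rcases Nat.lt_or_ge N (2 * u) with h2 | h2
  · rw [← Nat.choose_symm hu]
    exact mono _ (by omega) (by omega)
  · exact mono u hvu h2

theorem exists_smul_finset [Finite Ω] [DecidableEq Ω] {t : ℕ} (htr : IsMultiplyPretransitive G Ω t)
    {S T : Finset Ω} (hST : S.card = T.card) (hS : S.card ≤ t) (ht : t ≤ Nat.card Ω) :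
    ∃ g : G, g • S = T := by
  haveI := htr
  haveI := isMultiplyPretransitive_of_le (G := G) (α := Ω) hS ht
  let x : Fin S.card ↪ Ω := S.equivFin.symm.toEmbedding.trans (Function.Embedding.subtype _)
  let y : Fin S.card ↪ Ω :=
    ((finCongr hST).trans T.equivFin.symm).toEmbedding.trans (Function.Embedding.subtype _)
  obtain ⟨g, hg⟩ := exists_smul_eq G x y
  refine ⟨g, Finset.eq_of_subset_of_card_le ?_ (by rw [Finset.card_smul_finset, hST])⟩
  intro z hz
  obtain ⟨s, hs, rfl⟩ := Finset.mem_smul_finset.mp hz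
  have h1 : g • x (S.equivFin ⟨s, hs⟩) = y (S.equivFin ⟨s, hs⟩) := by rw [← hg]; rfl
  have h2 : x (S.equivFin ⟨s, hs⟩) = s := by simp [x]
  rw [h2] at h1
  rw [h1]
  exact ((finCongr hST).trans T.equivFin.symm (S.equivFin ⟨s, hs⟩)).2

theorem choose_mul_count [Fintype Ω] [DecidableEq Ω] (ℬ : Finset (Finset Ω)) (k j : ℕ)
    (hcard : ∀ B ∈ ℬ, B.card = k)
    (hconst : ∀ T T' : Finset Ω, T.card = j → T'.card = j →
      (ℬ.filter (T ⊆ ·)).card = (ℬ.filter (T' ⊆ ·)).card)
    (T : Finset Ω) (hT : T.card = j) :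
    (Fintype.card Ω).choose j * (ℬ.filter (T ⊆ ·)).card = ℬ.card * k.choose j := by
  have h1 := Finset.sum_card_bipartiteAbove_eq_sum_card_bipartiteBelow
    (r := fun (A B : Finset Ω) => A ⊆ B) (s := (univ : Finset Ω).powersetCard j) (t := ℬ)
  have e1 : ∀ A ∈ (univ : Finset Ω).powersetCard j,
      (ℬ.bipartiteAbove (fun A B : Finset Ω => A ⊆ B) A).card = (ℬ.filter (T ⊆ ·)).card := fun A hA =>
    hconst A T (Finset.mem_powersetCard.mp hA).2 hT
  have e2 : ∀ B ∈ ℬ,
      (((univ : Finset Ω).powersetCard j).bipartiteBelow (fun A B : Finset Ω => A ⊆ B) B).card =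
        k.choose j := fun B hB => by
    rw [← hcard B hB, ← Finset.card_powersetCard]
    congr 1
    ext A
    simp [Finset.bipartiteBelow, and_comm]
  rw [Finset.sum_congr rfl e1, Finset.sum_congr rfl e2, Finset.sum_const, Finset.sum_const,
    smul_eq_mul, smul_eq_mul, Finset.card_powersetCard, Finset.card_univ] at h1
  exact h1

theorem filter_inter_card [Fintype Ω] [DecidableEq Ω] (S Q : Finset Ω) (hQ : Q ⊆ S) (k : ℕ)
    (hk : Q.card ≤ k) :
    (((univ : Finset Ω).powersetCard k).filter (fun B => B ∩ S = Q)).card =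
      (Fintype.card Ω - S.card).choose (k - Q.card) := by
  rw [← Finset.card_univ, ← Finset.card_sdiff_of_subset (Finset.subset_univ S), ← Finset.card_powersetCard]
  refine Finset.card_bij' (fun B _ => B \ S) (fun B _ => B ∪ Q) ?_ ?_ ?_ ?_
  · intro B hB
    simp only [Finset.mem_filter, Finset.mem_powersetCard_univ] at hB
    rw [Finset.mem_powersetCard, Finset.card_sdiff, Finset.inter_comm S B, hB.1, hB.2]
    exact ⟨Finset.sdiff_subset_sdiff (Finset.subset_univ _) subset_rfl, rfl⟩
  · intro B hB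
    simp only [Finset.mem_powersetCard, Finset.subset_sdiff] at hB
    simp only [Finset.mem_filter, Finset.mem_powersetCard_univ]
    have hd : Disjoint B Q := hB.1.2.mono_right hQ
    refine ⟨by rw [Finset.card_union_of_disjoint hd, hB.2]; omega, ?_⟩
    rw [Finset.union_inter_distrib_right, Finset.disjoint_iff_inter_eq_empty.mp hB.1.2,
      Finset.inter_eq_left.mpr hQ, Finset.empty_union]
  · intro B hB
    simp only [Finset.mem_filter] at hB
    rw [← hB.2]
    exact Finset.sdiff_union_inter B S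
  · intro B hB
    simp only [Finset.mem_powersetCard, Finset.subset_sdiff] at hB
    rw [Finset.union_sdiff_distrib, Finset.sdiff_eq_empty_iff_subset.mpr hQ, Finset.union_empty,
      Finset.sdiff_eq_self_of_disjoint hB.1.2]

theorem exists_inter_eq_singleton [Fintype Ω] [DecidableEq Ω] [Finite G] {t : ℕ}
    (htr : IsMultiplyPretransitive G Ω t) (ht2 : 2 ≤ t) (Γ : Finset Ω)
    (hn : 2 * Γ.card < Fintype.card Ω) (htk : t + 1 ≤ Γ.card ∨ (t = 2 ∧ Γ.card = 2))
    (S : Finset Ω) (hS : S.card = t + 1) {a : Ω} (ha : a ∈ S) :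
    ∃ g : G, (g • Γ) ∩ S = {a} := by
  classical
  haveI := Fintype.ofFinite G
  set n := Fintype.card Ω with hn'
  set k := Γ.card with hk'
  let ℬ : Finset (Finset Ω) := univ.image fun g : G => g • Γ
  let 𝒦 : Finset (Finset Ω) := univ.powersetCard k
  have hcardB : ∀ B ∈ ℬ, B.card = k := fun B hB => by
    obtain ⟨g, -, rfl⟩ := Finset.mem_image.mp hB
    exact Finset.card_smul_finset g Γ
  have hBK : ℬ ⊆ 𝒦 := fun B hB => Finset.mem_powersetCard_univ.mpr (hcardB B hB)
  have hbpos : 0 < ℬ.card := Finset.card_pos.mpr ⟨_, Finset.mem_image_of_mem _ (Finset.mem_univ (1 : G))⟩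
  have hKcard : 𝒦.card = n.choose k := by
    rw [Finset.card_powersetCard, Finset.card_univ]
  have hconstB : ∀ j, j ≤ t → ∀ T T' : Finset Ω, T.card = j → T'.card = j →
      (ℬ.filter (T ⊆ ·)).card = (ℬ.filter (T' ⊆ ·)).card := by
    intro j hj T T' hT hT'
    obtain ⟨g, hg⟩ := exists_smul_finset htr (S := T) (T := T') (hT.trans hT'.symm) (hT ▸ hj)
      (by rw [Nat.card_eq_fintype_card]; omega)
    refine Finset.card_bij' (fun B _ => g • B) (fun B _ => g⁻¹ • B) ?_ ?_ ?_ ?_
    · intro B hB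
      simp only [ℬ, Finset.mem_filter, Finset.mem_image, Finset.mem_univ, true_and] at hB ⊢
      obtain ⟨⟨h, rfl⟩, hsub⟩ := hB
      exact ⟨⟨g * h, mul_smul g h Γ⟩, hg ▸ Finset.smul_finset_subset_smul_finset hsub⟩
    · intro B hB
      simp only [ℬ, Finset.mem_filter, Finset.mem_image, Finset.mem_univ, true_and] at hB ⊢
      obtain ⟨⟨h, rfl⟩, hsub⟩ := hB
      refine ⟨⟨g⁻¹ * h, mul_smul _ h Γ⟩, ?_⟩
      have h2 := Finset.smul_finset_subset_smul_finset (a := g⁻¹) hsub
      rwa [← hg, inv_smul_smul] at h2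
    · exact fun B _ => inv_smul_smul g B
    · exact fun B _ => smul_inv_smul g B
  have hprop : ∀ T : Finset Ω, T.card ≤ t →
      n.choose k * (ℬ.filter (T ⊆ ·)).card = ℬ.card * (𝒦.filter (T ⊆ ·)).card := by
    intro T hT
    have h1 := choose_mul_count ℬ k T.card hcardB (hconstB _ hT) T rfl
    have h2 := choose_mul_count 𝒦 k T.card (fun B hB => Finset.mem_powersetCard_univ.mp hB)
      (fun A A' hA hA' => by
        obtain ⟨π, hπ⟩ := exists_smul_finset (G := Equiv.Perm Ω) (t := T.card)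
          (Equiv.Perm.isMultiplyPretransitive Ω T.card) (S := A) (T := A')
          (hA.trans hA'.symm) hA.le (by rw [Nat.card_eq_fintype_card]; exact Finset.card_le_univ T)
        refine Finset.card_bij' (fun B _ => π • B) (fun B _ => π⁻¹ • B) ?_ ?_ ?_ ?_
        · intro B hB
          simp only [𝒦, Finset.mem_filter, Finset.mem_powersetCard_univ] at hB ⊢
          exact ⟨by rw [Finset.card_smul_finset, hB.1], hπ ▸ Finset.smul_finset_subset_smul_finset hB.2⟩
        · intro B hB
          simp only [𝒦, Finset.mem_filter, Finset.mem_powersetCard_univ] at hB ⊢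
          refine ⟨by rw [Finset.card_smul_finset, hB.1], ?_⟩
          have h2 := Finset.smul_finset_subset_smul_finset (a := π⁻¹) hB.2
          rwa [← hπ, inv_smul_smul] at h2
        · exact fun B _ => inv_smul_smul π B
        · exact fun B _ => smul_inv_smul π B) T rfl
    rw [hKcard] at h2
    have h3 : 0 < n.choose T.card := Nat.choose_pos (Finset.card_le_univ T)
    refine Nat.eq_of_mul_eq_mul_left h3 ?_
    rw [mul_left_comm, h1, mul_left_comm (n.choose T.card), h2]
    ring
  set S' := S.erase a with hS'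
  have hS'card : S'.card = t := by rw [hS', Finset.card_erase_of_mem ha, hS]; omega
  -- inclusion and exclusion
  let one : Finset (Finset Ω) → ℤ := fun 𝒳 => ((𝒳.filter fun B => B ∩ S = {a}).card : ℤ)
  let sup : Finset (Finset Ω) → Finset Ω → ℤ := fun 𝒳 T => ((𝒳.filter (T ⊆ ·)).card : ℤ)
  have hie : ∀ 𝒳 : Finset (Finset Ω),
      one 𝒳 = ∑ U ∈ S'.powerset, (-1) ^ U.card * sup 𝒳 (insert a U) := by
    intro 𝒳
    have e1 : ∀ B : Finset Ω, (if B ∩ S = {a} then (1 : ℤ) else 0) =
        ∑ U ∈ S'.powerset, (-1) ^ U.card * (if insert a U ⊆ B then (1 : ℤ) else 0) := by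
      intro B
      by_cases haB : a ∈ B
      · have h1 : ∀ U : Finset Ω, (insert a U ⊆ B ↔ U ⊆ B) := fun U => by
          simp [Finset.insert_subset_iff, haB]
        simp only [h1, mul_ite, mul_one, mul_zero]
        rw [← Finset.sum_filter,
          show S'.powerset.filter (· ⊆ B) = (S' ∩ B).powerset by ext U; rw [Finset.mem_filter, Finset.mem_powerset, Finset.mem_powerset, Finset.subset_inter_iff],
          Finset.sum_powerset_neg_one_pow_card]
        congr 1
        apply propext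
        constructor
        · intro h
          apply Finset.eq_empty_of_forall_notMem
          intro x hx
          rw [Finset.mem_inter, hS', Finset.mem_erase] at hx
          have : x ∈ B ∩ S := Finset.mem_inter.mpr ⟨hx.2, hx.1.2⟩
          rw [h, Finset.mem_singleton] at this
          exact hx.1.1 this
        · intro h
          ext x
          simp only [Finset.mem_inter, Finset.mem_singleton]
          refine ⟨fun hx => ?_, fun hx => hx ▸ ⟨haB, ha⟩⟩
          by_contra hne
          have : x ∈ S' ∩ B := Finset.mem_inter.mpr ⟨Finset.mem_erase.mpr ⟨hne, hx.2⟩, hx.1⟩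
          rw [h] at this
          exact Finset.notMem_empty _ this
      · have h1 : B ∩ S ≠ {a} := fun h => haB (Finset.mem_inter.mp (h ▸ Finset.mem_singleton_self a)).1
        rw [if_neg h1, Finset.sum_eq_zero fun U _ => by
          rw [if_neg fun h => haB (h (Finset.mem_insert_self _ _)), mul_zero]]
    simp only [one, sup, Finset.natCast_card_filter, Finset.mul_sum]
    rw [Finset.sum_comm]
    exact Finset.sum_congr rfl fun B _ => e1 B
  have hfull : insert a S' = S := Finset.insert_erase ha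
  have hdiff : (n.choose k : ℤ) * one ℬ - (ℬ.card : ℤ) * one 𝒦 =
      (-1) ^ t * ((n.choose k : ℤ) * sup ℬ S - (ℬ.card : ℤ) * sup 𝒦 S) := by
    rw [hie, hie, Finset.mul_sum, Finset.mul_sum, ← Finset.sum_sub_distrib,
      Finset.sum_eq_single_of_mem S' (Finset.mem_powerset_self _), hfull, hS'card]
    · ring
    · intro U hU hne
      have hlt : U.card < t := hS'card ▸ Finset.card_lt_card
        ⟨Finset.mem_powerset.mp hU, fun h => hne (Finset.Subset.antisymm (Finset.mem_powerset.mp hU) h)⟩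
      have h1 := hprop (insert a U) ((Finset.card_insert_le _ _).trans hlt)
      have h2 : (n.choose k : ℤ) * sup ℬ (insert a U) = (ℬ.card : ℤ) * sup 𝒦 (insert a U) := by
        simp only [sup]; exact_mod_cast h1
      linear_combination (-1) ^ U.card * h2
  -- the values in the complete design
  have htn : t + 1 ≤ n := hS ▸ Finset.card_le_univ S
  have hK1 : one 𝒦 = ((n - (t + 1)).choose (k - 1) : ℤ) := by
    simp only [one, 𝒦]
    rw [filter_inter_card S {a} (Finset.singleton_subset_iff.mpr ha) k (by simp; omega),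
      Finset.card_singleton, hS]
  by_contra hno
  push Not at hno
  have h0 : one ℬ = 0 := by
    simp only [one, Int.natCast_eq_zero, Finset.card_eq_zero, Finset.filter_eq_empty_iff]
    intro B hB
    obtain ⟨g, -, rfl⟩ := Finset.mem_image.mp hB
    exact hno g
  have hsupS0 : 0 ≤ sup ℬ S := Int.natCast_nonneg _
  have hchoose0 : (0 : ℤ) < n.choose k := by exact_mod_cast Nat.choose_pos (by omega)
  have hbpos' : (0 : ℤ) < ℬ.card := by exact_mod_cast hbpos
  rcases htk with htk | ⟨rfl, hk2⟩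
  swap
  · -- sets of size two
    have : sup ℬ S = 0 := by
      simp only [sup, Int.natCast_eq_zero, Finset.card_eq_zero, Finset.filter_eq_empty_iff]
      intro B hB hsub
      have := Finset.card_le_card hsub
      rw [hS, hcardB B hB] at this
      omega
    have h2 : sup 𝒦 S = 0 := by
      simp only [sup, Int.natCast_eq_zero, Finset.card_eq_zero, Finset.filter_eq_empty_iff]
      intro B hB hsub
      have := Finset.card_le_card hsub
      rw [hS, Finset.mem_powersetCard_univ.mp hB] at this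
      omega
    rw [h0, this, h2, hK1] at hdiff
    have : (0 : ℤ) < ((n - (2 + 1)).choose (k - 1) : ℤ) := by
      exact_mod_cast Nat.choose_pos (by omega)
    nlinarith
  have hKS : sup 𝒦 S = ((n - (t + 1)).choose (k - (t + 1)) : ℤ) := by
    simp only [sup, 𝒦, ← Finset.inter_eq_right]
    rw [filter_inter_card S S subset_rfl k (by omega), hS]
  have hlt1 : (n - (t + 1)).choose (k - (t + 1)) < (n - (t + 1)).choose (k - 1) :=
    choose_lt_choose_of_add_lt (by omega) (by omega) (by omega)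
  rw [h0, hK1, hKS] at hdiff
  rcases Nat.even_or_odd t with he | ho
  · rw [he.neg_one_pow] at hdiff
    have : ((n - (t + 1)).choose (k - (t + 1)) : ℤ) < ((n - (t + 1)).choose (k - 1) : ℤ) := by
      exact_mod_cast hlt1
    nlinarith [mul_lt_mul_of_pos_left this hbpos', mul_nonneg hchoose0.le hsupS0]
  · rw [ho.neg_one_pow] at hdiff
    obtain ⟨b, hb⟩ : S'.Nonempty := Finset.card_pos.mp (by omega)
    obtain ⟨hba, hbS⟩ := Finset.mem_erase.mp hb
    have hTcard : (S.erase b).card = t := by rw [Finset.card_erase_of_mem hbS, hS]; omega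
    have h1 := hprop (S.erase b) hTcard.le
    have h2 : (ℬ.filter (S ⊆ ·)).card ≤ (ℬ.filter (S.erase b ⊆ ·)).card :=
      Finset.card_le_card (Finset.monotone_filter_right _ fun B _ hB => (Finset.erase_subset _ _).trans hB)
    have h3 : (𝒦.filter (S.erase b ⊆ ·)).card =
        (n - (t + 1)).choose (k - t) + (n - (t + 1)).choose (k - (t + 1)) := by
      have hsplit : 𝒦.filter (S.erase b ⊆ ·) = 𝒦.filter (fun B => B ∩ S = S.erase b) ∪
          𝒦.filter (fun B => B ∩ S = S) := by
        ext B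
        simp only [Finset.mem_filter, Finset.mem_union]
        constructor
        · rintro ⟨hB, hsub⟩
          by_cases hbB : b ∈ B
          · refine Or.inr ⟨hB, Finset.inter_eq_right.mpr fun x hx => ?_⟩
            rcases eq_or_ne x b with rfl | hxb
            · exact hbB
            · exact hsub (Finset.mem_erase.mpr ⟨hxb, hx⟩)
          · refine Or.inl ⟨hB, Finset.Subset.antisymm (fun x hx => ?_) (Finset.subset_inter hsub (Finset.erase_subset _ _))⟩
            rw [Finset.mem_inter] at hx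
            exact Finset.mem_erase.mpr ⟨fun e => hbB (e ▸ hx.1), hx.2⟩
        · rintro (⟨hB, he⟩ | ⟨hB, he⟩)
          · exact ⟨hB, he ▸ Finset.inter_subset_left⟩
          · exact ⟨hB, (Finset.erase_subset _ _).trans (Finset.inter_eq_right.mp he)⟩
      rw [hsplit, Finset.card_union_of_disjoint]
      · simp only [𝒦]
        rw [filter_inter_card S _ (Finset.erase_subset _ _) k (by omega), hTcard,
          filter_inter_card S S subset_rfl k (by omega), hS]
      · rw [Finset.disjoint_filter]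
        intro B _ h1 h2
        rw [h1] at h2
        exact Finset.notMem_erase b S (h2.symm ▸ hbS)
    have hlt2 : (n - (t + 1)).choose (k - t) < (n - (t + 1)).choose (k - 1) :=
      choose_lt_choose_of_add_lt (by omega) (by omega) (by omega)
    rw [h3] at h1
    have h1' : (n.choose k : ℤ) * ((ℬ.filter (S.erase b ⊆ ·)).card : ℤ) = (ℬ.card : ℤ) *
        (((n - (t + 1)).choose (k - t) : ℤ) + ((n - (t + 1)).choose (k - (t + 1)) : ℤ)) := by
      exact_mod_cast h1
    have h2' : sup ℬ S ≤ ((ℬ.filter (S.erase b ⊆ ·)).card : ℤ) := by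
      simp only [sup]; exact_mod_cast h2
    have hlt2' : ((n - (t + 1)).choose (k - t) : ℤ) < ((n - (t + 1)).choose (k - 1) : ℤ) := by
      exact_mod_cast hlt2
    nlinarith [mul_le_mul_of_nonneg_left h2' hchoose0.le, mul_lt_mul_of_pos_left hlt2' hbpos']

theorem succ_transitive_of_jordan [Fintype Ω] [DecidableEq Ω] [Finite G] {t : ℕ}
    (htr : IsMultiplyPretransitive G Ω t) (ht2 : 2 ≤ t) (Γ : Finset Ω)
    (hΓ : Suborbit.IsJordanSet G Γ) (hn : 2 * Γ.card < Fintype.card Ω) (htk : t + 1 ≤ Γ.card) :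
    IsMultiplyPretransitive G Ω (t + 1) := by
  classical
  haveI := htr
  set n := Fintype.card Ω
  set k := Γ.card with hk
  let F := (univ : Finset (Finset Ω)).filter fun J =>
    Suborbit.IsJordanSet G J ∧ k ≤ J.card ∧ J.card + t ≤ n
  have hF : F.Nonempty := ⟨Γ, by simp [F]; exact ⟨hΓ, le_rfl, by omega⟩⟩
  obtain ⟨J, hJF, hmax⟩ := F.exists_max_image Finset.card hF
  simp only [F, Finset.mem_filter, Finset.mem_univ, true_and] at hJF
  obtain ⟨hJ, hkJ, hJn⟩ := hJF
  set C := univ \ J with hC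
  have hmemC : ∀ z, z ∈ C ↔ z ∉ J := fun z => by simp [hC]
  have hCcard : C.card + J.card = n := Finset.card_sdiff_add_card_eq_card (Finset.subset_univ J)
  have hcross : ∀ g : G, ((g • Γ) ∩ J).Nonempty → ((g • Γ) ∩ C).Nonempty → (C \ (g • Γ)).card < t := by
    intro g hBJ hBC
    by_contra hle
    push Not at hle
    have hu : Suborbit.IsJordanSet G (J ∪ g • Γ) := hJ.union (hΓ.smul g) (by rwa [Finset.inter_comm])
    have hlt : J.card < (J ∪ g • Γ).card := by
      refine Finset.card_lt_card ⟨Finset.subset_union_left, fun hsub => ?_⟩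
      obtain ⟨z, hz⟩ := hBC
      rw [Finset.mem_inter] at hz
      exact (hmemC z).mp hz.2 (hsub (Finset.mem_union_right _ hz.1))
    have he : C \ (g • Γ) = univ \ (J ∪ g • Γ) := by
      ext z
      simp [hC, Finset.mem_sdiff, Finset.mem_union]
    have h1 := Finset.card_sdiff_add_card_eq_card (Finset.subset_univ (J ∪ g • Γ))
    rw [← he, Finset.card_univ] at h1
    refine hlt.not_ge (hmax _ ?_)
    simp only [F, Finset.mem_filter, Finset.mem_univ, true_and]
    exact ⟨hu, by omega, by omega⟩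
  have hCt : C.card = t := by
    by_contra hne
    have hCgt : t + 1 ≤ C.card := by omega
    obtain ⟨a, ha⟩ : C.Nonempty := Finset.card_pos.mp (by omega)
    obtain ⟨x, hx⟩ : J.Nonempty := Finset.card_pos.mp (by omega)
    have hCk : C.card + 2 ≤ k + t := by
      obtain ⟨u, hu, v, hv, huv⟩ := Finset.one_lt_card.mp (show 1 < Γ.card by omega)
      have hax : a ≠ x := fun e => (hmemC a).mp ha (e ▸ hx)
      haveI := isMultiplyPretransitive_of_le (G := G) (α := Ω) ht2
        (by rw [Nat.card_eq_fintype_card]; omega)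
      obtain ⟨g, hgu, hgv⟩ := is_two_pretransitive_iff.mp (inferInstance : IsMultiplyPretransitive G Ω 2) huv hax
      have haB : a ∈ g • Γ := hgu ▸ Finset.smul_mem_smul_finset hu
      have hxB : x ∈ g • Γ := hgv ▸ Finset.smul_mem_smul_finset hv
      have h1 := hcross g ⟨x, Finset.mem_inter.mpr ⟨hxB, hx⟩⟩ ⟨a, Finset.mem_inter.mpr ⟨haB, ha⟩⟩
      have h2 : (C ∩ g • Γ).card < k := by
        rw [hk, ← Finset.card_smul_finset g Γ]
        exact Finset.card_lt_card ⟨Finset.inter_subset_right, fun hsub =>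
          (hmemC x).mp (Finset.mem_inter.mp (hsub hxB)).1 hx⟩
      have h3 := Finset.card_sdiff_add_card_inter C (g • Γ)
      omega
    obtain ⟨S, haS, hSC, hScard⟩ := Finset.exists_subsuperset_card_eq
      (Finset.singleton_subset_iff.mpr ha) (show ({a} : Finset Ω).card ≤ t + 1 by simp) hCgt
    obtain ⟨g, hg⟩ := exists_inter_eq_singleton htr ht2 Γ hn (Or.inl htk) S hScard
      (Finset.singleton_subset_iff.mp haS)
    have hmiss : t ≤ (C \ (g • Γ)).card := by
      have hsub : S.erase a ⊆ C \ (g • Γ) := fun z hz => by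
        rw [Finset.mem_erase] at hz
        refine Finset.mem_sdiff.mpr ⟨hSC hz.2, fun hzB => hz.1 ?_⟩
        have : z ∈ (g • Γ) ∩ S := Finset.mem_inter.mpr ⟨hzB, hz.2⟩
        rwa [hg, Finset.mem_singleton] at this
      have := Finset.card_le_card hsub
      rw [Finset.card_erase_of_mem (Finset.singleton_subset_iff.mp haS), hScard] at this
      omega
    by_cases hBJ : ((g • Γ) ∩ J).Nonempty
    · have haB : a ∈ g • Γ := (Finset.mem_inter.mp (hg ▸ Finset.mem_singleton_self a)).1
      have := hcross g hBJ ⟨a, Finset.mem_inter.mpr ⟨haB, ha⟩⟩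
      omega
    · have hBC : g • Γ ⊆ C := fun z hz =>
        (hmemC z).mpr fun hzJ => hBJ ⟨z, Finset.mem_inter.mpr ⟨hz, hzJ⟩⟩
      have := Finset.card_sdiff_add_card_eq_card hBC
      rw [Finset.card_smul_finset] at this
      omega
  let e : Fin t ↪ Ω :=
    ((finCongr hCt.symm).trans C.equivFin.symm).toEmbedding.trans (Function.Embedding.subtype _)
  have heC : ∀ i, e i ∈ C := fun i => ((finCongr hCt.symm).trans C.equivFin.symm i).2
  have hesurj : ∀ z ∈ C, ∃ i, e i = z := fun z hz =>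
    ⟨((finCongr hCt.symm).trans C.equivFin.symm).symm ⟨z, hz⟩, by simp [e]⟩
  refine ⟨fun x y => ?_⟩
  have key : ∀ x : Fin (t + 1) ↪ Ω, ∃ g : G, (∀ i : Fin t, g • x i.castSucc = e i) ∧ g • x (Fin.last t) ∈ J := by
    intro x
    obtain ⟨g, hg⟩ := exists_smul_eq G (Fin.castSuccEmb.trans x) e
    have hgi : ∀ i : Fin t, g • x i.castSucc = e i := fun i => by rw [← hg]; rfl
    refine ⟨g, hgi, ?_⟩
    by_contra hnot
    obtain ⟨i, hi⟩ := hesurj _ ((hmemC _).mpr hnot)
    exact (Fin.castSucc_lt_last i).ne (x.injective (smul_left_cancel g ((hgi i).trans hi)))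
  obtain ⟨g, hg, hgl⟩ := key x
  obtain ⟨g', hg', hgl'⟩ := key y
  obtain ⟨h, hh, hhx⟩ := hJ _ hgl _ hgl'
  refine ⟨g'⁻¹ * h * g, ?_⟩
  ext i
  rw [Function.Embedding.smul_apply, mul_smul, mul_smul, inv_smul_eq_iff]
  refine Fin.lastCases hhx (fun j => ?_) i
  rw [hg, hg', hh _ ((hmemC _).mp (heC j))]

theorem exists_inter_singleton [Fintype Ω] [DecidableEq Ω] [Finite G]
    (h2 : IsMultiplyPretransitive G Ω 2) (Γ : Finset Ω) (hΓ : Suborbit.IsJordanSet G Γ)
    (hk : 1 < Γ.card) (hn : 2 * Γ.card < Fintype.card Ω) :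
    ∃ g : G, ∃ a, (g • Γ) ∩ Γ = {a} := by
  obtain ⟨a, ha⟩ : Γ.Nonempty := Finset.card_pos.mp (by omega)
  rcases Nat.lt_or_ge Γ.card 4 with hk4 | hk4
  · obtain ⟨S, hΓS, -, hS⟩ := Finset.exists_subsuperset_card_eq (Finset.subset_univ Γ)
      (show Γ.card ≤ 2 + 1 by omega) (by rw [Finset.card_univ]; omega)
    obtain ⟨g, hg⟩ := exists_inter_eq_singleton h2 le_rfl Γ hn (by omega) S hS (hΓS ha)
    refine ⟨g, a, Finset.Subset.antisymm ?_ ?_⟩
    · exact (Finset.inter_subset_inter_left hΓS).trans hg.subset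
    · exact Finset.singleton_subset_iff.mpr (Finset.mem_inter.mpr
        ⟨(Finset.mem_inter.mp (hg ▸ Finset.mem_singleton_self a)).1, ha⟩)
  · have key : ∀ t, 2 ≤ t → t + 1 ≤ Γ.card → IsMultiplyPretransitive G Ω t := by
      intro t ht
      induction t, ht using Nat.le_induction with
      | base => exact fun _ => h2
      | succ t ht ih => exact fun htk => succ_transitive_of_jordan (ih (by omega)) ht Γ hΓ hn (by omega)
    obtain ⟨g, hg⟩ := exists_inter_eq_singleton (key (Γ.card - 1) (by omega) (by omega)) (by omega)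
      Γ hn (Or.inl (by omega)) Γ (by omega) ha
    exact ⟨g, a, hg⟩

/-- The commutator of two Jordan subgroups meeting in one fibre. -/
theorem exists_three_cycle {Ψ : Type*} [MulAction G Ψ] (π : Ω → Ψ)
    (hπ : ∀ (g : G) (x : Ω), π (g • x) = g • π x) [Fintype Ψ] [DecidableEq Ψ]
    (hsurj : Function.Surjective π) (Γ Δ : Set Ψ) {p q r : Ψ} (hpΓ : p ∈ Γ) (hpΔ : p ∈ Δ)
    (hone : ∀ z, z ∈ Γ → z ∈ Δ → z = p)
    {k l : G} (hk : ∀ x, π x ∉ Γ → k • x = x) (hl : ∀ x, π x ∉ Δ → l • x = x)
    (hkp : k • p = q) (hlp : l • p = r) (hqp : q ≠ p) (hrp : r ≠ p) :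
    ∃ c : G, (toPermHom G Ψ c).IsThreeCycle ∧ (toPermHom G Ψ c).support ⊆ {p, q, r} ∧
      ∀ x, π x ≠ p → π x ≠ q → π x ≠ r → c • x = x := by
  have mem : ∀ {g : G} {A : Set Ψ}, (∀ x, π x ∉ A → g • x = x) → ∀ z, z ∈ A → g • z ∈ A := by
    intro g A hg z hz
    by_contra hn
    obtain ⟨x, rfl⟩ := hsurj z
    rw [← hπ] at hn
    exact hn (by rw [smul_left_cancel g (hg _ hn)]; exact hz)
  have fixed : ∀ {g : G} {A : Set Ψ}, (∀ x, π x ∉ A → g • x = x) → ∀ z, z ∉ A → g • z = z := by
    intro g A hg z hz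
    obtain ⟨x, rfl⟩ := hsurj z
    rw [← hπ, hg x hz]
  have hk' : ∀ x, π x ∉ Γ → k⁻¹ • x = x := fun x hx => by rw [inv_smul_eq_iff, hk x hx]
  have hl' : ∀ x, π x ∉ Δ → l⁻¹ • x = x := fun x hx => by rw [inv_smul_eq_iff, hl x hx]
  have hfix : ∀ x, π x ≠ p → π x ≠ q → π x ≠ r → (k * l * k⁻¹ * l⁻¹) • x = x := by
    intro x hxp hxq hxr
    simp only [mul_smul]
    by_cases hxΔ : π x ∈ Δ
    · have h1 : π (l⁻¹ • x) ∈ Δ := by rw [hπ]; exact mem hl' _ hxΔ
      have h2 : π (l⁻¹ • x) ≠ p := fun e => hxr (by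
        rw [hπ, inv_smul_eq_iff] at e; rw [e, hlp])
      have h3 : π (l⁻¹ • x) ∉ Γ := fun h => h2 (hone _ h h1)
      rw [hk' _ h3, smul_inv_smul, hk x fun h => hxp (hone _ h hxΔ)]
    · rw [hl' x hxΔ]
      by_cases hxΓ : π x ∈ Γ
      · have h1 : π (k⁻¹ • x) ∈ Γ := by rw [hπ]; exact mem hk' _ hxΓ
        have h2 : π (k⁻¹ • x) ≠ p := fun e => hxq (by
          rw [hπ, inv_smul_eq_iff] at e; rw [e, hkp])
        rw [hl _ fun h => h2 (hone _ h1 h), smul_inv_smul]
      · rw [hk' x hxΓ, hl x hxΔ, hk x hxΓ]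
  refine ⟨k * l * k⁻¹ * l⁻¹, ?_, ?_, hfix⟩
  swap
  · intro z hz
    rw [Equiv.Perm.mem_support, toPermHom_apply, toPerm_apply] at hz
    by_contra hn
    simp only [Finset.mem_insert, Finset.mem_singleton, not_or] at hn
    obtain ⟨x, rfl⟩ := hsurj z
    exact hz (by rw [← hπ, hfix x hn.1 hn.2.1 hn.2.2])
  have hsub : (toPermHom G Ψ (k * l * k⁻¹ * l⁻¹)).support ⊆ {p, q, r} := by
    intro z hz
    rw [Equiv.Perm.mem_support, toPermHom_apply, toPerm_apply] at hz
    by_contra hn
    simp only [Finset.mem_insert, Finset.mem_singleton, not_or] at hn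
    obtain ⟨x, rfl⟩ := hsurj z
    exact hz (by rw [← hπ, hfix x hn.1 hn.2.1 hn.2.2])
  have hmoves : (k * l * k⁻¹ * l⁻¹) • r = p := by
    have h1 : k⁻¹ • p ∈ Γ := mem hk' _ hpΓ
    have h2 : k⁻¹ • p ≠ p := fun e => hqp (by rw [inv_smul_eq_iff, hkp] at e; exact e.symm)
    simp only [mul_smul]
    rw [show l⁻¹ • r = p by rw [inv_smul_eq_iff, hlp],
      fixed hl _ (fun h => h2 (hone _ h1 h)), smul_inv_smul]
  rw [← card_support_eq_three_iff]
  have hle : (toPermHom G Ψ (k * l * k⁻¹ * l⁻¹)).support.card ≤ 3 :=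
    (Finset.card_le_card hsub).trans ((Finset.card_insert_le _ _).trans
      (Nat.add_le_add_right ((Finset.card_insert_le _ _).trans (by simp)) 1))
  have hne : toPermHom G Ψ (k * l * k⁻¹ * l⁻¹) ≠ 1 := fun e => hrp (by
    have := congrArg (fun σ : Equiv.Perm Ψ => σ r) e
    simp only [toPermHom_apply, toPerm_apply, Equiv.Perm.one_apply] at this
    exact this.symm.trans hmoves)
  have h2 := Equiv.Perm.two_le_card_support_of_ne_one hne
  by_contra h3
  have hswap := Equiv.Perm.card_support_eq_two.mp (show (toPermHom G Ψ (k * l * k⁻¹ * l⁻¹)).support.card = 2 by omega)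
  have hsign := hswap.sign_eq
  rw [map_mul, map_mul, map_mul, map_inv, map_inv, map_mul, map_mul, map_mul, map_inv, map_inv,
    mul_right_comm (Equiv.Perm.sign (toPermHom G Ψ k)), mul_inv_cancel, one_mul, mul_inv_cancel] at hsign
  exact absurd hsign (by decide)

/-- Marggraff's theorem in terms of an image. -/
theorem alternating_le_range [Fintype Ω] [DecidableEq Ω] [Finite G]
    (hprim : IsPreprimitive G Ω) (Γ : Finset Ω) (hΓ : Suborbit.IsJordanSet G Γ) (hk : 1 < Γ.card)
    (hn : 2 * Γ.card < Fintype.card Ω) :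
    alternatingGroup Ω ≤ (toPermHom G Ω).range := by
  have h2 : IsMultiplyPretransitive G Ω 2 := Suborbit.two_transitive_of_jordanSet hprim (Γ : Set Ω)
    (by rwa [Set.ncard_coe_finset]) (by rw [Set.ncard_coe_finset, Nat.card_eq_fintype_card]; omega)
    (fun x hx y hy => hΓ x hx y hy)
  obtain ⟨g, p, hp⟩ := exists_inter_singleton h2 Γ hΓ hk hn
  obtain ⟨hpΔ, hpΓ⟩ := Finset.mem_inter.mp (hp ▸ Finset.mem_singleton_self p)
  obtain ⟨q, hq, hqp⟩ := Finset.exists_mem_ne hk p
  obtain ⟨r, hr, hrp⟩ := Finset.exists_mem_ne (s := g • Γ) (by rwa [Finset.card_smul_finset]) p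
  obtain ⟨k, hkfix, hkp⟩ := hΓ p hpΓ q hq
  obtain ⟨l, hlfix, hlp⟩ := hΓ.smul g p hpΔ r hr
  obtain ⟨c, hc, -, -⟩ := exists_three_cycle (Ψ := Ω) id (fun _ _ => rfl) Function.surjective_id
    (Γ : Set Ω) ((g • Γ : Finset Ω) : Set Ω) hpΓ hpΔ
    (fun z hzΓ hzΔ => Finset.mem_singleton.mp (hp ▸ Finset.mem_inter.mpr ⟨hzΔ, hzΓ⟩))
    hkfix hlfix hkp hlp hqp hrp
  refine Equiv.Perm.alternatingGroup_le_of_isPreprimitive_of_isThreeCycle_mem ?_ hc ⟨c, rfl⟩
  let f : Ω →ₑ[(toPermHom G Ω).rangeRestrict] Ω := { toFun := id, map_smul' := fun _ _ => rfl }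
  exact (isPreprimitive_congr (f := f) (MonoidHom.rangeRestrict_surjective _) Function.bijective_id).mp hprim

/-- An equivariant map with a Jordan set of fibres has trivial fibres. -/
theorem fibres_trivial {Ψ : Type*} [MulAction G Ψ] [Fintype Ψ] [DecidableEq Ψ] [Finite G]
    [FaithfulSMul G Ψ] [Finite Ω] [IsPretransitive G Ω] (π : Ω → Ψ)
    (hπ : ∀ (g : G) (x : Ω), π (g • x) = g • π x) (hsurj : Function.Surjective π)
    (hprim : IsPreprimitive G Ψ) (Γ' : Finset Ψ) (hk : 1 < Γ'.card) (hn : 2 * Γ'.card < Fintype.card Ψ)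
    (hΓ : ∀ x y, π x ∈ Γ' → π y ∈ Γ' → ∃ g : G, (∀ z, π z ∉ Γ' → g • z = z) ∧ g • x = y) :
    Function.Injective π := by
  classical
  have hJ : Suborbit.IsJordanSet G Γ' := by
    intro x hx y hy
    obtain ⟨u, rfl⟩ := hsurj x
    obtain ⟨v, rfl⟩ := hsurj y
    obtain ⟨g, hg, hgu⟩ := hΓ u v hx hy
    refine ⟨g, fun z hz => ?_, by rw [← hπ, hgu]⟩
    obtain ⟨w, rfl⟩ := hsurj z
    rw [← hπ, hg w hz]
  have hA := alternating_le_range hprim Γ' hJ hk hn
  have hinj : ∀ g : G, toPermHom G Ψ g = 1 → g = 1 := fun g hg =>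
    eq_of_smul_eq_smul (α := Ψ) fun z => by
      have := congrArg (fun σ : Equiv.Perm Ψ => σ z) hg
      simpa using this
  have h5 : 5 ≤ Nat.card Ψ := by rw [Nat.card_eq_fintype_card]; omega
  -- one three cycle moving three fibres only
  obtain ⟨g, p, hp⟩ := exists_inter_singleton
    (Suborbit.two_transitive_of_jordanSet hprim (Γ' : Set Ψ) (by rwa [Set.ncard_coe_finset])
      (by rw [Set.ncard_coe_finset, Nat.card_eq_fintype_card]; omega) (fun x hx y hy => hJ x hx y hy))
    Γ' hJ hk hn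
  obtain ⟨hpΔ, hpΓ⟩ := Finset.mem_inter.mp (hp ▸ Finset.mem_singleton_self p)
  obtain ⟨q, hq, hqp⟩ := Finset.exists_mem_ne hk p
  obtain ⟨r, hr, hrp⟩ := Finset.exists_mem_ne (s := g • Γ') (by rwa [Finset.card_smul_finset]) p
  obtain ⟨xp, hxp⟩ := hsurj p
  obtain ⟨xq, hxq⟩ := hsurj q
  obtain ⟨xp', hxp'⟩ := hsurj (g⁻¹ • p)
  obtain ⟨xr, hxr⟩ := hsurj (g⁻¹ • r)
  obtain ⟨k, hkfix, hkp⟩ := hΓ xp xq (hxp ▸ hpΓ) (hxq ▸ hq)
  obtain ⟨l, hlfix, hlp⟩ := hΓ xp' xr (hxp' ▸ Finset.inv_smul_mem_iff.mpr hpΔ)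
    (hxr ▸ Finset.inv_smul_mem_iff.mpr hr)
  obtain ⟨c, hc, hcsupp, hcfix⟩ := exists_three_cycle π hπ hsurj
    (Γ' : Set Ψ) ((g • Γ' : Finset Ψ) : Set Ψ) hpΓ hpΔ
    (fun z hzΓ hzΔ => Finset.mem_singleton.mp (hp ▸ Finset.mem_inter.mpr ⟨hzΔ, hzΓ⟩))
    (k := k) (l := g * l * g⁻¹) (q := q) (r := r) hkfix
    (fun x hx => by
      have h1 : π (g⁻¹ • x) ∉ Γ' := by
        rw [hπ]
        exact fun h => hx (Finset.inv_smul_mem_iff.mp h)
      rw [mul_smul, mul_smul, hlfix _ h1, smul_inv_smul])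
    (by rw [← hxp, ← hπ, hkp, hxq])
    (by rw [mul_smul, mul_smul, ← hxp', ← hπ l, hlp, hxr, smul_inv_smul]) hqp hrp
  have hsupp : (toPermHom G Ψ c).support = {p, q, r} :=
    Finset.eq_of_subset_of_card_le hcsupp (by
      rw [hc.card_support]
      exact (Finset.card_insert_le _ _).trans
        (Nat.add_le_add_right ((Finset.card_insert_le _ _).trans (by simp)) 1))
  have hcfix' : ∀ x, toPermHom G Ψ c (π x) = π x → c • x = x := fun x hx => by
    have : π x ∉ ({p, q, r} : Finset Ψ) := hsupp ▸ Equiv.Perm.notMem_support.mpr hx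
    simp only [Finset.mem_insert, Finset.mem_singleton, not_or] at this
    exact hcfix x this.1 this.2.1 this.2.2
  -- every three cycle fixing a fibre fixes it pointwise
  have hthree : ∀ σ : Equiv.Perm Ψ, σ.IsThreeCycle → ∀ x, σ (π x) = π x →
      ∃ u : G, toPermHom G Ψ u = σ ∧ u • x = x := by
    intro σ hσ x hx
    obtain ⟨⟨a, haA⟩, ha⟩ := isConj_iff.mp (alternatingGroup.isThreeCycle_isConj h5
      (σ := ⟨_, hc.mem_alternatingGroup⟩) (τ := ⟨σ, hσ.mem_alternatingGroup⟩) hc hσ)
    obtain ⟨y, rfl⟩ := hA haA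
    have ha' : toPermHom G Ψ (y * c * y⁻¹) = σ := by
      rw [map_mul, map_mul, map_inv]; exact congrArg Subtype.val ha
    refine ⟨y * c * y⁻¹, ha', ?_⟩
    have h1 : toPermHom G Ψ c (π (y⁻¹ • x)) = π (y⁻¹ • x) := by
      have h2 := hx
      rw [← ha', toPermHom_apply, toPerm_apply, mul_smul, mul_smul, ← eq_inv_smul_iff] at h2
      rw [toPermHom_apply, toPerm_apply, hπ]
      exact h2
    rw [mul_smul, mul_smul, hcfix' _ h1, smul_inv_smul]
  have heven : ∀ (u : G) (x : Ω), π (u • x) = π x → Equiv.Perm.sign (toPermHom G Ψ u) = 1 →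
      u • x = x := by
    intro u x hux hsgn
    let V : Subgroup (Equiv.Perm {z : Ψ // z ≠ π x}) :=
      Subgroup.comap (Equiv.Perm.ofSubtype : Equiv.Perm {z : Ψ // z ≠ π x} →* Equiv.Perm Ψ)
        ((stabilizer G x).map (toPermHom G Ψ))
    have hV : alternatingGroup {z : Ψ // z ≠ π x} ≤ V := by
      rw [← Equiv.Perm.closure_three_cycles_eq_alternating, Subgroup.closure_le]
      intro σ hσ
      have h1 : (Equiv.Perm.ofSubtype σ).IsThreeCycle := by
        rw [Equiv.Perm.IsThreeCycle, Equiv.Perm.cycleType_ofSubtype]; exact hσ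
      obtain ⟨w, hw1, hw2⟩ := hthree _ h1 x (Equiv.Perm.ofSubtype_apply_of_not_mem σ (fun h => h rfl))
      exact ⟨w, hw2, hw1⟩
    have hfix : ∀ z, z ≠ π x → toPermHom G Ψ u z ≠ π x := fun z hz e => hz (by
      refine (toPermHom G Ψ u).injective (e.trans ?_)
      simp [← hπ, hux])
    set τ := (toPermHom G Ψ u).subtypePerm (p := fun z => z ≠ π x) (fun z => ⟨fun h e => h (by
      rw [e]; simp [← hπ, hux]), hfix z⟩) with hτ
    have hofs : Equiv.Perm.ofSubtype τ = toPermHom G Ψ u := Equiv.Perm.ofSubtype_subtypePerm _ (fun z hz e => by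
      rw [e] at hz; exact hz (by simp [← hπ, hux]))
    obtain ⟨w, hw, hwu⟩ := hV (show τ ∈ alternatingGroup _ by
      rw [Equiv.Perm.mem_alternatingGroup, ← Equiv.Perm.sign_ofSubtype, hofs, hsgn])
    have : w = u := by
      refine mul_inv_eq_one.mp (hinj _ ?_)
      rw [map_mul, map_inv, hwu, hofs, mul_inv_cancel]
    exact this ▸ hw
  intro x x' hxx
  -- move into the Jordan set
  obtain ⟨a, ha⟩ : Γ'.Nonempty := Finset.card_pos.mp (by omega)
  obtain ⟨xa, hxa⟩ := hsurj a
  obtain ⟨m, hm⟩ := exists_smul_eq G x xa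
  have hy : π (m • x) ∈ Γ' := by rw [hm, hxa]; exact ha
  have hy' : π (m • x') ∈ Γ' := by rwa [hπ, ← hxx, ← hπ]
  obtain ⟨v, hvfix, hv⟩ := hΓ (m • x) (m • x') hy hy'
  have hfixB : π (v • m • x) = π (m • x) := by rw [hv, hπ, hπ, hxx]
  rcases Int.units_eq_one_or (Equiv.Perm.sign (toPermHom G Ψ v)) with hs | hs
  · have := heven v _ hfixB hs
    rw [hv] at this
    exact smul_left_cancel m this.symm
  · obtain ⟨b, hb⟩ : ∃ b, b ∉ Γ' := by
      by_contra hall
      push Not at hall
      have := Finset.eq_univ_iff_forall.mpr hall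
      rw [this, Finset.card_univ] at hn
      omega
    obtain ⟨z, hz⟩ := hsurj b
    obtain ⟨w, hw⟩ := exists_smul_eq G x z
    have hwb : π (w • x') ∉ Γ' := by rwa [hπ, ← hxx, ← hπ, hw, hz]
    obtain ⟨w', hw'⟩ := exists_smul_eq G (w • x) (w • x')
    have hBw : π (w' • w • x) = π (w • x) := by rw [hw', hπ, hπ, hxx]
    have hwx : π (w • x) ∉ Γ' := by rwa [hw, hz]
    have hvfx : v • w • x = w • x := hvfix _ hwx
    rcases Int.units_eq_one_or (Equiv.Perm.sign (toPermHom G Ψ w')) with hs' | hs'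
    · have := heven w' _ hBw hs'
      rw [hw'] at this
      exact smul_left_cancel w this.symm
    · have hB : π ((w' * v) • w • x) = π (w • x) := by rw [mul_smul, hvfx, hBw]
      have := heven (w' * v) _ hB (by rw [map_mul, map_mul, hs, hs']; rfl)
      rw [mul_smul, hvfx, hw'] at this
      exact smul_left_cancel w this.symm

end Cfsg.Agent.PrimStruct
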